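import Cfsg.Agent.Known.Pres.Carm
import Cfsg.Agent.Classical.Wt

/-! Representations of alternating groups and their double covers: the permutation type. -/

set_option autoImplicit false

namespace CF.AltD

open Function hiding swap
open Subgroup Equiv Equiv.Perm Module CF.Known.Pres CF.Classical Finset

variable {Ω : Type} [Fintype Ω] [DecidableEq Ω] {X : Type*} [Group X] {K V : Type*} [Field K]
  [AddCommGroup V] [Module K V] {π : X →* Perm Ω} {t : X} {ρ : X →* End K V}

theorem fresh (l : List Ω) (h : l.length < Fintype.card Ω) : ∃ x, x ∉ l := by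
  by_contra! h1
  exact absurd ((card_le_card fun x _ => List.mem_toFinset.2 (h1 x)).trans l.toFinset_card_le)
    (by rw [card_univ]; omega)

variable (K) in
/-- The degree bound. -/
def Bd (r n : ℕ) : Prop := r ≤ n + 1 ∨ (r : K) = 0 ∧ r ≤ n + 2

variable (π t ρ) in
/-- The central involution acts as `-1` and is the square of the lifts of double transpositions. -/
def Sp : Prop := ρ t = -1 ∧ (2 : K) ≠ 0 ∧
  ∀ h a b c d, [a, b, c, d].Nodup → π h = swap a b * swap c d → h * h = t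

variable (π t ρ) in
/-- A representation of an alternating group or of its double cover. -/
structure Rp : Prop where
  cen : ∀ h, h * t = t * h
  πt : π t = 1
  ker : ∀ h, π h = 1 → h = 1 ∨ h = t
  sgn : ∀ h, sign (π h) = 1
  surj : ∀ σ, sign σ = 1 → ∃ h, π h = σ
  sc : ρ t = 1 ∨ Sp π t ρ

variable (π) in
/-- The elements supported on `T`. -/
def On (T : Finset Ω) : Subgroup X where
  carrier := {x | ∀ a ∉ T, π x a = a}
  one_mem' := by simp
  mul_mem' h h' a ha := by simp [h a ha, h' a ha]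
  inv_mem' {x} h a ha := by rw [map_inv, inv_eq_iff_eq, h a ha]

theorem c3_on {T : Finset Ω} {α β i : Ω} {x : X} (h : π x = c3 α β i) (h1 : α ∈ T) (h2 : β ∈ T)
    (h3 : i ∈ T) : x ∈ On π T := fun _ ha =>
  h ▸ c3_apply_of_ne (fun e => ha (e ▸ h1)) (fun e => ha (e ▸ h2)) fun e => ha (e ▸ h3)

theorem On.mem_iff {T : Finset Ω} (x : On π T) (a : Ω) : π x a ∈ T ↔ a ∈ T := by
  refine ⟨fun h => by_contra fun e => e (x.2 a e ▸ h), fun h => by_contra fun e => e ?_⟩
  rwa [(π x).injective (x.2 _ e)]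

variable (π) in
/-- The restricted action. -/
def resπ (T : Finset Ω) : On π T →* Perm {a // a ∈ T} :=
  MonoidHom.mk' (fun x => (π x).subtypePerm (On.mem_iff x)) fun _ _ => by ext; simp [subtypePerm]

theorem of_resπ {T : Finset Ω} (x : On π T) : ofSubtype (resπ π T x) = π x :=
  ofSubtype_subtypePerm (On.mem_iff x) fun a h => by_contra fun e => h (x.2 a e)

variable (π ρ) in
/-- An invariant subspace. -/
def Inv (T : Finset Ω) (W : Submodule K V) : Prop := ∀ x ∈ On π T, ∀ v ∈ W, ρ x v ∈ W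

/-- The restricted representation. -/
def Inv.rep {T : Finset Ω} {W : Submodule K V} (h : Inv π ρ T W) : On π T →* End K W where
  toFun x := (ρ x).restrict (h x x.2)
  map_one' := by ext; simp
  map_mul' _ _ := by ext; simp

variable (π ρ) in
/-- The vectors fixed by the elements supported on `T`. -/
def Fx (T : Finset Ω) : Submodule K V where
  carrier := {v | ∀ x ∈ On π T, ρ x v = v}
  add_mem' h h' x hx := by rw [map_add, h x hx, h' x hx]
  zero_mem' x _ := map_zero _
  smul_mem' c _ h x hx := by rw [map_smul, h x hx]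

theorem Fx.anti {T T' : Finset Ω} (h : T ⊆ T') {v : V} (hv : v ∈ Fx π ρ T') : v ∈ Fx π ρ T :=
  fun x hx => hv x fun a ha => hx a fun e => ha (h e)

theorem Fx.map {T T' : Finset Ω} {v : V} (hv : v ∈ Fx π ρ T) (g : X) (h : ∀ a, π g a ∈ T' → a ∈ T) :
    ρ g v ∈ Fx π ρ T' := fun x hx => by
  rw [rep_conj_apply ρ (g := g) (a := g⁻¹ * x * g) (by group), hv _ fun a ha => by
    simp [hx _ (mt (h a) ha)]]

namespace Rp

variable (D : Rp π t ρ)
include D

theorem sq : t * t = 1 :=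
  (D.ker (t * t) (by simp [D.πt])).elim id fun e => by rw [mul_eq_left.1 e, one_mul]

theorem eq_or {x y : X} (h : π x = π y) : x = y ∨ x = y * t :=
  (D.ker (y⁻¹ * x) (by simp [h])).imp (fun e => (inv_mul_eq_one.1 e).symm) fun e => by simp [← e]

theorem mul_pow (x : X) {m : ℕ} (hm : Odd m) : (x * t) ^ m = x ^ m * t := by
  obtain ⟨k, rfl⟩ := hm
  rw [Commute.mul_pow (D.cen x), pow_succ t, pow_mul t, pow_two, D.sq, one_pow, one_mul]

theorem eq_of_odd {x y : X} {m : ℕ} (hm : Odd m) (h : π x = π y) (hx : x ^ m = 1) (hy : y ^ m = 1) :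
    x = y := (D.eq_or h).elim id fun e => by
  rw [e, D.mul_pow _ hm, hy, one_mul] at hx
  rw [e, hx, mul_one]

theorem exists_odd {σ : Perm Ω} {m : ℕ} (hm : Odd m) (h : σ ^ m = 1) : ∃ x, π x = σ ∧ x ^ m = 1 := by
  obtain ⟨x, rfl⟩ := D.surj σ ((Int.units_eq_one_or _).resolve_right fun e => by
    simpa [e, hm.neg_one_pow] using congrArg sign h)
  rcases D.ker (x ^ m) (by rw [map_pow, h]) with e | e
  · exact ⟨x, rfl, e⟩
  · exact ⟨x * t, by simp [D.πt], by rw [D.mul_pow _ hm, e, D.sq]⟩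

theorem comm_of_odd {x h : X} {m : ℕ} (hm : Odd m) (hx : x ^ m = 1) (hc : Commute (π h) (π x)) :
    Commute h x :=
  mul_inv_eq_iff_eq_mul.1 (D.eq_of_odd (x := h * x * h⁻¹) hm (by simp [hc.eq])
    (by rw [conj_pow, hx]; simp) hx)

theorem t_mem (T : Finset Ω) : t ∈ On π T := fun a _ => by simp [D.πt]

theorem res {T : Finset Ω} {W : Submodule K V} (h : Inv π ρ T W) :
    Rp (resπ π T) ⟨t, D.t_mem T⟩ h.rep where
  cen x := Subtype.ext (D.cen x)
  πt := ofSubtype_injective (by rw [of_resπ, D.πt, map_one])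
  ker x e := (D.ker x (by rw [← of_resπ, e, map_one])).imp Subtype.ext Subtype.ext
  sgn x := by rw [← sign_ofSubtype, of_resπ, D.sgn]
  surj σ e := by
    obtain ⟨x, hx⟩ := D.surj (ofSubtype σ) (by rwa [sign_ofSubtype])
    exact ⟨⟨x, fun a ha => hx ▸ ofSubtype_apply_of_not_mem _ ha⟩,
      ofSubtype_injective (by rw [of_resπ, hx])⟩
  sc := D.sc.imp (fun e => by ext; simp [Inv.rep, e]) fun e => ⟨by ext; simp [Inv.rep, e.1], e.2.1,
    fun x a b c d hn e' => Subtype.ext (e.2.2 x a b c d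
      (by simpa using hn.map Subtype.val_injective) (by
        rw [← of_resπ, e', map_mul, ofSubtype_swap_eq, ofSubtype_swap_eq]))⟩

theorem faith (h5 : 5 ≤ Fintype.card Ω) {y : X} (hy : π y ≠ 1) (h : ρ y = 1) (x : X) : ρ x = 1 := by
  have := alternatingGroup.isSimpleGroup (α := Ω) (by simpa)
  let φ : X →* alternatingGroup Ω := π.codRestrict _ D.sgn
  have h1 : ∀ x, ∃ k, ρ k = 1 ∧ π k = π x := fun x => by
    obtain ⟨k, hk, e⟩ := (((ρ.toHomUnits.normal_ker.map φ fun σ => (D.surj σ σ.2).imp fun _ e =>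
      Subtype.ext e).eq_bot_or_eq_top).resolve_left fun e => hy (congrArg Subtype.val
        ((Subgroup.map_eq_bot_iff _).1 e (Units.ext h : y ∈ _)))).ge (mem_top (φ x))
    exact ⟨k, congrArg Units.val hk, congrArg Subtype.val e⟩
  have h2 : ρ t = 1 := D.sc.elim id fun e => by
    obtain ⟨j⟩ : Nonempty (Fin 4 ↪ Ω) := Function.Embedding.nonempty_of_card_le (by simp; omega)
    obtain ⟨x, hx⟩ := D.surj (swap (j 0) (j 1) * swap (j 2) (j 3)) (by simp)
    obtain ⟨k, hk, e'⟩ := h1 x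
    rw [← e.2.2 k _ _ _ _ (by simp) (e'.trans hx), map_mul, hk, one_mul]
  obtain ⟨k, hk, e⟩ := h1 x
  rcases D.eq_or e.symm with e | e <;> simp [e, hk, h2]

theorem faith' {T : Finset Ω} (h5 : 5 ≤ T.card) {W : Submodule K V} (hW : Inv π ρ T W) {y : X}
    (hT : y ∈ On π T) (hy : π y ≠ 1) (h : ∀ v ∈ W, ρ y v = v) {v : V} (hv : v ∈ W) :
    v ∈ Fx π ρ T := fun x hx =>
  congrArg Subtype.val (LinearMap.congr_fun ((D.res hW).faith (by simpa) (y := ⟨y, hT⟩)
    (fun e => hy (by rw [← of_resπ ⟨y, hT⟩, e, map_one])) (LinearMap.ext fun v =>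
      Subtype.ext (h v v.2)) ⟨x, hx⟩) ⟨v, hv⟩)

theorem mem_Fx {T : Finset Ω} {v : V} (ht : ρ t v = v) {α β : Ω} (h : α ≠ β) (hα : α ∈ T)
    (hβ : β ∈ T) (H : ∀ i ∈ T, i ≠ α → i ≠ β → ∃ k, π k = c3 α β i ∧ ρ k v = v) : v ∈ Fx π ρ T := by
  intro x hx
  let S : Subgroup X :=
    { carrier := {k | ρ k v = v}, one_mem' := by simp
      mul_mem' := fun h h' => by simp_all
      inv_mem' := fun {k} h => rep_injective ρ k (by rw [← rep_mul_apply]; simpa using h.symm) }
  obtain ⟨k, hk, e⟩ := altOn_le h (T := (T.erase α).erase β) (S := T) (by simp) (by simp)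
    (by rw [insert_erase (by simp [h.symm, hβ]), insert_erase hα]) (C := S.map π)
    (fun i hi => by
      simp only [mem_erase] at hi
      exact (H i hi.2.2 hi.2.1 hi.1).imp fun _ h => h.symm) ⟨D.sgn x, hx⟩
  rcases D.eq_or e.symm with rfl | rfl
  · exact hk
  · rw [rep_mul_apply, ht, hk]

theorem exists_c3 {α β i : Ω} (h : α ≠ β) (h1 : i ≠ α) (h2 : i ≠ β) :
    ∃ k, π k = c3 α β i ∧ k ^ 3 = 1 := D.exists_odd (by decide) (c3_cube h h1 h2)

theorem exists_two (h4 : 4 ≤ Fintype.card Ω) {a b i j : Ω} (h : a ≠ b) (h' : i ≠ j) :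
    ∃ g, π g a = i ∧ π g b = j := by
  obtain ⟨c, hc⟩ := fresh [a, b] (by simp; omega)
  obtain ⟨d, hd⟩ := fresh [a, b, c] (by simp; omega)
  simp only [List.mem_cons, List.not_mem_nil, or_false, not_or] at hc hd
  obtain ⟨σ, h1, h2⟩ : ∃ σ : Perm Ω, σ a = i ∧ σ b = j :=
    ⟨swap (swap a i b) j * swap a i, by simp only [coe_mul, comp_apply, swap_apply_def]; grind,
      by simp⟩
  rcases Int.units_eq_one_or (sign σ) with e | e
  · obtain ⟨g, rfl⟩ := D.surj σ e
    exact ⟨g, h1, h2⟩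
  · obtain ⟨g, hg⟩ := D.surj (σ * swap c d) (by simp [e, Ne.symm hd.2.2])
    exact ⟨g, by simp only [hg, coe_mul, comp_apply, swap_apply_def]; grind,
      by simp only [hg, coe_mul, comp_apply, swap_apply_def]; grind⟩

/-- A cocycle of the natural action gives the bound. -/
theorem cocycle [FiniteDimensional K V] (h5 : 5 ≤ Fintype.card Ω) {u : Ω → Ω → V}
    (h1 : ∀ a b c, u a b + u b c = u a c) (h2 : ∀ x a b, ρ x (u a b) = u (π x a) (π x b))
    {a b : Ω} (h3 : u a b ≠ 0) :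
    Bd K (Fintype.card Ω) (finrank K V) := by
  have h4 : ∀ a, u a a = 0 := fun a => by simpa using h1 a a a
  have h6 : ∀ i j, i ≠ j → u i j ≠ 0 := fun i j hij e => by
    obtain ⟨g, rfl, rfl⟩ := D.exists_two (by omega) hij (fun e => h3 (e ▸ h4 a) : a ≠ b)
    exact h3 (by rw [← h2, e, map_zero])
  let Ψ : (Ω → K) →ₗ[K] V × K := (Fintype.linearCombination K (u · a)).prod
    (Fintype.linearCombination K fun _ => 1)
  have h7 : ∀ c, Ψ c = 0 ↔ ∑ i, c i • u i a = 0 ∧ ∑ i, c i = 0 := fun c => by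
    simp [Ψ, Fintype.linearCombination_apply]
  have h8 : ∀ x c, Ψ c = 0 → Ψ (c ∘ ⇑(π x)⁻¹ - c) = 0 := fun x c h => by
    rw [map_sub, h, sub_zero, h7, ← Equiv.sum_comp (π x),
      ← Equiv.sum_comp (π x) (fun i => (c ∘ ⇑(π x)⁻¹) i)]
    obtain ⟨e, e'⟩ := (h7 c).1 h
    have := congrArg (ρ x) e
    simp only [map_sum, map_smul, h2, map_zero] at this
    rw [sum_congr rfl fun i _ => by rw [← h1 _ a (π x a), smul_add], sum_add_distrib, ← sum_smul, e',
      zero_smul, add_zero] at this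
    simpa [e'] using this
  have h9 : ∀ c, Ψ c = 0 → ∀ i j, c i = c j := fun c h i j => by_contra fun hij => by
    have h0 : i ≠ j := fun e => hij (e ▸ rfl)
    obtain ⟨k, hk⟩ := fresh [i, j] (by simp; omega)
    obtain ⟨l, hl⟩ := fresh [i, j, k] (by simp; omega)
    obtain ⟨m, hm⟩ := fresh [i, j, k, l] (by simp; omega)
    simp only [List.mem_cons, List.not_mem_nil, or_false, not_or] at hk hl hm
    obtain ⟨x, hx, -⟩ := D.exists_c3 (α := j) (β := k) (i := i) (Ne.symm hk.2) h0 (Ne.symm hk.1)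
    obtain ⟨y, hy, -⟩ := D.exists_c3 (α := l) (β := m) (i := j) (Ne.symm hm.2.2.2)
      (Ne.symm hl.2.1) (Ne.symm hm.2.1)
    have := ((h7 _).1 (h8 y _ (h8 x c h))).1
    rw [show (c ∘ ⇑(π x)⁻¹ - c) ∘ ⇑(π y)⁻¹ - (c ∘ ⇑(π x)⁻¹ - c) = (c i - c j) •
      (Pi.single l 1 - Pi.single j 1) from funext fun n => by
        simp only [hx, hy, c3, _root_.mul_inv_rev, swap_inv, Pi.sub_apply, comp_apply, Perm.coe_mul,
          swap_apply_def, Pi.smul_apply, Pi.single_apply, smul_eq_mul]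
        clear * - hk hl hm h0
        grind] at this
    simp only [Pi.smul_apply, Pi.sub_apply, smul_eq_mul, mul_smul, ← smul_sum, sub_smul,
      sum_sub_distrib, Pi.single_apply, ite_smul, one_smul, zero_smul, sum_ite_eq', mem_univ,
      if_true] at this
    rw [← h1 l j a, add_sub_cancel_right, ← sub_smul, smul_eq_zero, sub_eq_zero] at this
    exact this.elim hij (h6 _ _ hl.2.1)
  have h10 := Ψ.finrank_range_add_finrank_ker
  have h11 := Submodule.finrank_le (LinearMap.range Ψ)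
  rw [finrank_prod, finrank_self] at h11
  rw [finrank_fintype_fun_eq_card] at h10
  by_cases h : (Fintype.card Ω : K) = 0
  · have : LinearMap.ker Ψ ≤ K ∙ (fun _ => 1) := fun c hc =>
      Submodule.mem_span_singleton.2 ⟨c a, funext fun i => by simp [h9 c hc a i]⟩
    have := (Submodule.finrank_mono this).trans (finrank_span_le_card _)
    simp at this
    exact .inr ⟨h, by omega⟩
  · rw [LinearMap.ker_eq_bot'.2 fun c hc => funext fun i => by
      simpa [h9 c hc _ i, h] using ((h7 c).1 hc).2, finrank_bot] at h10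
    exact .inl (by omega)

end Rp

variable (π ρ) in
/-- The commutator space of a three-cycle is fixed by the complementary alternating group. -/
def Star : Prop := ∀ h, (π h).IsThreeCycle → h ^ 3 = 1 → ∀ v, ρ h v - v ∈ Fx π ρ (π h).supportᶜ

theorem Star.c3 (H : Star π ρ) {α β i : Ω} (h : α ≠ β) (h1 : i ≠ α) (h2 : i ≠ β) {k : X}
    (hk : π k = c3 α β i) (h3 : k ^ 3 = 1) (v : V) : ρ k v - v ∈ Fx π ρ {α, β, i}ᶜ :=
  Fx.anti (compl_subset_compl.2 fun a ha => by_contra fun e => by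
    simp only [mem_insert, mem_singleton, not_or] at e
    exact mem_support.1 ha (hk ▸ c3_apply_of_ne e.1 e.2.1 e.2.2))
    (H k (hk ▸ isThreeCycle_swap_mul_swap_same h2 h1 h.symm) h3 v)

namespace Rp

variable (D : Rp π t ρ) (H : Star π ρ) (h7 : 7 ≤ Fintype.card Ω)
include D H h7

theorem of_pairs [FiniteDimensional K V] {w : Ω → Ω → V}
    (h1 : ∀ x a b, a ≠ b → ρ x (w a b) = w (π x a) (π x b)) {a b c : Ω} (h2 : a ≠ c) (h3 : b ≠ c)
    (h4 : w a c ≠ w b c) :
    Bd K (Fintype.card Ω) (finrank K V) := by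
  have h5 : ∀ a b c d, a ≠ c → b ≠ c → a ≠ d → b ≠ d → w a c - w b c = w a d - w b d := by
    intro a b c d e₁ e₂ e₃ e₄
    by_cases e₅ : a = b
    · simp [e₅]
    by_cases e₆ : c = d
    · rw [e₆]
    obtain ⟨e, he⟩ := fresh [a, b, c, d] (by simp; omega)
    obtain ⟨f, hf⟩ := fresh [a, b, c, d, e] (by simp; omega)
    simp only [List.mem_cons, List.not_mem_nil, or_false, not_or] at he hf
    obtain ⟨g, hg, hg'⟩ := D.exists_c3 (α := a) (β := e) (i := b) (Ne.symm he.1) (Ne.symm e₅)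
      (Ne.symm he.2.1)
    obtain ⟨k, hk, -⟩ := D.exists_c3 (α := d) (β := f) (i := c) (Ne.symm hf.2.2.2.1) e₆
      (Ne.symm hf.2.2.1)
    have := H.c3 (Ne.symm he.1) (Ne.symm e₅) (Ne.symm he.2.1) hg hg' (w b c) k
      (c3_on hk (by simp; grind) (by simp; grind) (by simp; grind))
    rw [h1 _ _ _ e₂, hg, c3_apply_self (Ne.symm he.1) (Ne.symm e₅), c3_apply_of_ne e₁.symm
      (Ne.symm he.2.2.1) e₂.symm, map_sub, h1 _ _ _ e₁, h1 _ _ _ e₂, hk,
      c3_apply_self (Ne.symm hf.2.2.2.1) e₆, c3_apply_of_ne e₃ (Ne.symm hf.1) e₁,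
      c3_apply_of_ne e₄ (Ne.symm hf.2.1) e₂] at this
    exact this.symm
  choose o ho using fun a b : Ω => fresh [a, b] (by simp; omega)
  simp only [List.mem_cons, List.not_mem_nil, or_false, not_or] at ho
  have h6 : ∀ a b c, a ≠ c → b ≠ c → w a (o a b) - w b (o a b) = w a c - w b c :=
    fun a b c => h5 a b _ c (Ne.symm (ho a b).1) (Ne.symm (ho a b).2)
  refine D.cocycle (by omega) (u := fun a b => w a (o a b) - w b (o a b)) (fun a b c => ?_)
    (fun x a b => ?_) (a := a) (b := b) (by rw [h6 a b c h2 h3]; exact sub_ne_zero.2 h4)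
  · obtain ⟨d, hd⟩ := fresh [a, b, c] (by simp; omega)
    simp only [List.mem_cons, List.not_mem_nil, or_false, not_or] at hd
    rw [h6 a b d (Ne.symm hd.1) (Ne.symm hd.2.1), h6 b c d (Ne.symm hd.2.1) (Ne.symm hd.2.2),
      h6 a c d (Ne.symm hd.1) (Ne.symm hd.2.2), sub_add_sub_cancel]
  · rw [map_sub, h1 _ _ _ (Ne.symm (ho a b).1), h1 _ _ _ (Ne.symm (ho a b).2),
      h6 _ _ _ ((π x).injective.ne (Ne.symm (ho a b).1)) ((π x).injective.ne (Ne.symm (ho a b).2))]

theorem of_fix [FiniteDimensional K V] {a b : Ω} (h : a ≠ b) {v : V} (hv : v ∈ Fx π ρ {a, b}ᶜ)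
    {x : X} (hx : ρ x v ≠ v) :
    Bd K (Fintype.card Ω) (finrank K V) := by
  choose! g g1 g2 using fun i j (e : i ≠ j) => D.exists_two (by omega) h e
  have h1 : ∀ y, ρ y v = ρ (g (π y a) (π y b)) v := fun y => by
    have e := (π y).injective.ne h
    rw [← mul_inv_cancel_left (g (π y a) (π y b)) y, rep_mul_apply, hv _ fun c hc => by
      simp only [mem_compl, not_not, mem_insert, mem_singleton] at hc
      rcases hc with rfl | rfl <;> simp [symm_apply_eq, g1 _ _ e, g2 _ _ e]]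
    simp
  have h2 : ∀ y i j, i ≠ j → ρ y (ρ (g i j) v) = ρ (g (π y i) (π y j)) v := fun y i j e => by
    rw [← rep_mul_apply, h1]; simp [g1 _ _ e, g2 _ _ e]
  obtain ⟨c, hc⟩ := fresh [π x b, b] (by simp; omega)
  simp only [List.mem_cons, List.not_mem_nil, or_false, not_or] at hc
  by_contra h3
  have h4 := fun {a b c} e e' => not_not.1 (mt (D.of_pairs H h7 (w := fun i j => ρ (g i j) v) h2
    (a := a) (b := b) (c := c) e e') h3)
  have h5 := fun {a b c} e e' => not_not.1 (mt (D.of_pairs H h7 (w := fun i j => ρ (g j i) v)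
    (fun y i j e => h2 y j i e.symm) (a := a) (b := b) (c := c) e e') h3)
  have h6 := h1 1
  simp only [map_one, End.one_apply, Perm.coe_one, id] at h6
  exact hx (by rw [h1, h4 ((π x).injective.ne h) hc.1, h5 (Ne.symm hc.1) (Ne.symm hc.2), h4 hc.2 h, ← h6])

theorem of_star [FiniteDimensional K V] (hρ : ∃ x, ρ x ≠ 1) :
    Bd K (Fintype.card Ω) (finrank K V) := by
  obtain ⟨j⟩ : Nonempty (Fin 7 ↪ Ω) := Function.Embedding.nonempty_of_card_le (by simpa)
  obtain ⟨h, hh, hh'⟩ := D.exists_c3 (α := j 1) (β := j 2) (i := j 0) (by simp) (by simp) (by simp)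
  obtain ⟨g, hg, hg'⟩ := D.exists_c3 (α := j 3) (β := j 4) (i := j 0) (by simp) (by simp) (by simp)
  obtain ⟨k, hk⟩ := D.surj (swap (j 3) (j 4) * swap (j 5) (j 6)) (by simp)
  have h1 : k * g * k⁻¹ = g * g := D.eq_of_odd (m := 3) (by decide) (by
    ext x
    simp only [map_mul, map_inv, hk, hg, c3, mul_inv_rev, swap_inv, Perm.coe_mul, comp_apply,
      swap_apply_def]
    have := fun a b => j.injective.eq_iff (a := a) (b := b)
    grind) (by rw [conj_pow, hg']; simp) (by rw [← _root_.sq, ← pow_mul, mul_comm, pow_mul, hg', one_pow])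
  have hj := fun a b => j.injective.eq_iff (a := a) (b := b)
  by_cases h2 : ∀ v x, ρ x (ρ h v - v) = ρ h v - v
  · obtain ⟨x, hx⟩ := hρ
    refine absurd (D.faith (by omega) (y := (h * (g⁻¹ * h * g))⁻¹ * (g⁻¹ * h * g * h))
      (fun e => ?_) (LinearMap.ext fun v => rep_injective ρ (h * (g⁻¹ * h * g)) ?_) x) hx
    · simpa [hh, hg, c3, swap_apply_def] using congrArg (· (j 1)) e
    have h3 : ∀ v, ρ (g⁻¹ * h * g) v = v + (ρ h (ρ g v) - ρ g v) := fun v => by
      rw [← h2 _ g⁻¹]; simp [← rep_mul_apply ρ g⁻¹ g]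
    rw [← rep_mul_apply, mul_inv_cancel_left, End.one_apply, rep_mul_apply, rep_mul_apply ρ h, h3, h3,
      map_add, h2, ← sub_add_cancel (ρ h v) v, map_add, h2, map_add, h2]
    abel
  obtain ⟨v, x, h2⟩ := by simpa only [not_forall] using h2
  have h3 := H.c3 (by simp) (by simp) (by simp) hh hh' v
  generalize ρ h v - v = y at h2 h3
  have h4 : ρ g y - y ∈ Fx π ρ {j 0, j 3}ᶜ := by
    have h4 := H.c3 (by simp) (by simp) (by simp) hg hg' y
    refine D.mem_Fx (h4 _ (D.t_mem _)) (α := j 5) (β := j 6) (by simp) (by simp) (by simp)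
      fun i hi e e' => ?_
    obtain ⟨l, hl, -⟩ := D.exists_c3 (α := j 5) (β := j 6) (by simp) e e'
    refine ⟨l, hl, ?_⟩
    by_cases e₄ : i = j 4
    · refine (Submodule.sub_mem _ (Fx.map h3 g (T' := {j 4, j 5, j 6}) fun a => ?_)
        (Fx.anti (by simp [subset_iff]) h3)) l (c3_on hl (by simp) (by simp) (by simp [e₄]))
      simp only [hg, c3, Perm.coe_mul, comp_apply, swap_apply_def, mem_insert, mem_singleton, mem_compl]
      grind
    · exact h4 l (c3_on hl (by simp) (by simp) (by simp_all))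
  by_cases h5 : ∀ x, ρ x (ρ g y - y) = ρ g y - y
  · refine D.of_fix H h7 (a := j 1) (b := j 2) (by simp) ?_ h2
    have h6 : ρ k y = y := h3 k fun a ha => by
      simp only [hk, Perm.coe_mul, comp_apply, swap_apply_def, mem_insert, mem_singleton, mem_compl,
        not_not] at ha ⊢
      grind
    have h8 : ρ g y = y := by
      have := rep_conj_apply ρ h1 y
      rw [h6, rep_mul_apply, ← sub_add_cancel (ρ g y) y, map_add, map_add, h5, h5, h6,
        add_right_inj] at this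
      exact this
    refine D.mem_Fx (h3 _ (D.t_mem _)) (α := j 3) (β := j 4) (by simp) (by simp) (by simp)
      fun i hi e e' => ?_
    by_cases e₀ : i = j 0
    · exact ⟨g, e₀ ▸ hg, h8⟩
    obtain ⟨l, hl, -⟩ := D.exists_c3 (α := j 3) (β := j 4) (by simp) e e'
    exact ⟨l, hl, h3 l (c3_on hl (by simp) (by simp) (by simp_all))⟩
  · obtain ⟨x, h5⟩ := not_forall.1 h5
    exact D.of_fix H h7 (by simp) h4 h5

end Rp

end CF.AltD
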