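import Cfsg.Agent.AltD.A

/-! Representations of alternating groups and their double covers: the degree bound. -/

set_option autoImplicit false

namespace CF.AltD

open Function hiding swap
open Subgroup Equiv Equiv.Perm Module CF.Known.Pres CF.Classical Finset

section Lin

variable {K V : Type*} [Field K] [AddCommGroup V] [Module K V] [FiniteDimensional K V]

/-- A joint eigenspace of two operators. -/
def E2 (a b : End K V) (l m : K) : Submodule K V := wsp ![a, b] ![l, m]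

omit [FiniteDimensional K V] in
theorem mem_E2 {a b : End K V} {l m : K} {v : V} : v ∈ E2 a b l m ↔ a v = l • v ∧ b v = m • v := by
  simp [E2, mem_wsp, Fin.forall_fin_two]

theorem span_eig [IsAlgClosed K] {a : End K V} {m : ℕ} (hm : (m : K) ≠ 0) (ha : a ^ m = 1)
    {W : Submodule K V} (hW : ∀ v ∈ W, a v ∈ W) {D : End K V}
    (h : ∀ l : K, ∀ v ∈ W, a v = l • v → D v = 0) : ∀ v ∈ W, D v = 0 := fun v hv => by
  have h1 : End.IsSemisimple (a.restrict hW) := End.isSemisimple_of_squarefree_aeval_eq_zero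
    (Polynomial.X_pow_sub_one_separable_iff.2 hm).squarefree (by
      ext v; simp [End.pow_restrict, ha])
  have h2 : ∀ l, End.eigenspace (a.restrict hW) l ≤ LinearMap.ker (D ∘ₗ W.subtype) :=
    fun l u hu => h l u u.2 (congrArg Subtype.val (End.mem_eigenspace_iff.1 hu))
  exact iSup_le h2 (h1.iSup_eigenspace_eq_top.ge (Submodule.mem_top (x := ⟨v, hv⟩)))

omit [FiniteDimensional K V] in
theorem pow_eig {a : End K V} {l : K} {v : V} (h : a v = l • v) (n : ℕ) : (a ^ n) v = l ^ n • v := by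
  induction' n with n ih
  · simp
  · rw [pow_succ', End.mul_apply, ih, map_smul, h, smul_smul, pow_succ]

theorem exists_wt [IsAlgClosed K] {a b : End K V} {m : ℕ} (hm : (m : K) ≠ 0) (ha : a ^ m = 1)
    (hb : b ^ m = 1) (e : Commute a b) {ζ : K} (hζ : IsPrimitiveRoot ζ m) {D : End K V} (h : D ≠ 0) :
    ∃ x < m, ∃ y < m, ∃ v ∈ E2 a b (ζ ^ x) (ζ ^ y), D v ≠ 0 := by
  have := NeZero.of_neZero_natCast K (h := ⟨hm⟩)
  by_contra! h1
  refine h (LinearMap.ext fun v => span_eig hm ha (W := ⊤) (fun _ _ => trivial)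
    (fun l v _ hv => span_eig hm hb (W := End.eigenspace a l) (fun v hv => ?_)
      (fun l' v hv hv' => by_contra fun h2 => ?_) v (End.mem_eigenspace_iff.2 hv)) v trivial)
  · rw [End.mem_eigenspace_iff] at hv ⊢
    rw [← End.mul_apply, e.eq, End.mul_apply, hv, map_smul]
  have h3 : ∀ {a : End K V} {l : K}, a ^ m = 1 → a v = l • v → ∃ x < m, ζ ^ x = l := fun h h' =>
    hζ.eq_pow_of_pow_eq_one (eq_of_smul_eq (v := v) (fun e => h2 (by simp [e])) (by
      rw [← pow_eig h', h]; simp))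
  rw [End.mem_eigenspace_iff] at hv
  obtain ⟨x, hx, rfl⟩ := h3 ha hv
  obtain ⟨y, hy, rfl⟩ := h3 hb hv'
  exact h2 (h1 x hx y hy v (mem_E2.2 ⟨hv, hv'⟩))

theorem two_le {W : Submodule K V} {a b : End K V} (ha : ∀ v ∈ W, a v ∈ W) (hb : ∀ v ∈ W, b v ∈ W)
    {v : V} (hv : v ∈ W) (h : a (b v) ≠ b (a v)) : 2 ≤ finrank K W := by
  by_contra! h1
  obtain ⟨u, hu⟩ := finrank_le_one_iff.1 (Nat.le_of_lt_succ h1)
  have h2 : ∀ w ∈ W, ∃ c : K, w = c • (u : V) := fun w hw =>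
    (hu ⟨w, hw⟩).imp fun _ e => (congrArg Subtype.val e).symm
  obtain ⟨c, rfl⟩ := h2 v hv
  obtain ⟨d, hd⟩ := h2 _ (ha u u.2)
  obtain ⟨e, he⟩ := h2 _ (hb u u.2)
  simp [hd, he, smul_comm d e] at h

end Lin

variable {Ω : Type} [Fintype Ω] [DecidableEq Ω] {X : Type*} [Group X] {K V : Type*} [Field K]
  [AddCommGroup V] [Module K V] {π : X →* Perm Ω} {t : X} {ρ : X →* End K V}

variable (t ρ) in
/-- Lifts determined by their images. -/
def Gd (m : ℕ) (a : X) : Prop := ρ t = 1 ∨ Odd m ∧ a ^ m = 1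

variable (π ρ) in
/-- The weight space bound for an element supported outside `T`. -/
structure Blk (T : Finset Ω) (a : X) (e c : ℕ) : Prop where
  supp : a ∈ On π Tᶜ
  ne : π a ≠ 1
  comm : ∀ x ∈ On π T, Commute (ρ a) (ρ x)
  bd : ∀ D : End K V, Commute (ρ a) D → (ρ a - 1) * D ≠ 0 → ∃ W, Inv π ρ T W ∧
    (∃ v ∈ W, D v ≠ 0) ∧ e + c * finrank K W ≤ finrank K V

/-- Conjugation data. -/
def Dat {N : ℕ} (a b : Perm (Fin N)) (m : ℕ) (L : List (Perm (Fin N) × ℕ × ℕ × ℕ × ℕ))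
    (B : Finset (Fin N)) (P : ℕ → Prop) : Prop :=
  (a ≠ 1 ∧ a ^ m = 1 ∧ b ^ m = 1 ∧ a * b = b * a ∧ ∀ i ∉ B, a i = i ∧ b i = i) ∧
  (∀ e ∈ L, sign e.1 = 1 ∧ a * e.1 = e.1 * (a ^ e.2.1 * b ^ e.2.2.1) ∧
    b * e.1 = e.1 * (a ^ e.2.2.2.1 * b ^ e.2.2.2.2)) ∧ ∀ x < m, ∀ y < m, x ≠ 0 → P y →
    ((0, 0) :: L.map fun e => ((e.2.1 * x + e.2.2.1 * y) % m,
      (e.2.2.2.1 * x + e.2.2.2.2 * y) % m)).Nodup

instance {N : ℕ} (a b : Perm (Fin N)) (m : ℕ) (L : List (Perm (Fin N) × ℕ × ℕ × ℕ × ℕ))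
    (B : Finset (Fin N)) (P : ℕ → Prop) [DecidablePred P] : Decidable (Dat a b m L B P) :=
  @instDecidableAnd _ _ inferInstance (@instDecidableAnd _ _ inferInstance
    (@Nat.decidableBallLT _ _ fun _ _ => @Nat.decidableBallLT _ _ fun _ _ => inferInstance))

omit [Fintype Ω] [DecidableEq Ω] in
theorem via_apply {N : ℕ} (j : Fin N ↪ Ω) (σ : Perm (Fin N)) (i : Fin N) :
    viaEmbeddingHom j σ (j i) = j (σ i) := viaEmbedding_apply σ j i

theorem sign_via {N : ℕ} (j : Fin N ↪ Ω) (σ : Perm (Fin N)) : sign (viaEmbeddingHom j σ) = sign σ := by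
  rw [viaEmbeddingHom_apply, viaEmbedding, sign_extendDomain]

theorem via_on {N : ℕ} {j : Fin N ↪ Ω} {σ : Perm (Fin N)} {B : Finset (Fin N)}
    (h : ∀ i ∉ B, σ i = i) {a : X} (ha : π a = viaEmbeddingHom j σ) : a ∈ On π (B.map j)ᶜᶜ := by
  intro x hx
  by_cases h1 : x ∈ Set.range j
  · obtain ⟨i, rfl⟩ := h1
    rw [ha, via_apply, h i (by simpa using hx)]
  · exact ha ▸ viaEmbedding_apply_of_notMem σ j x h1

theorem comm_on {T : Finset Ω} {a x : X} (ha : a ∈ On π Tᶜ) (hx : x ∈ On π T) :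
    Commute (π x) (π a) := Perm.Disjoint.commute fun i => by
  by_cases h : i ∈ T
  exacts [.inr (ha i (by simpa)), .inl (hx i h)]

namespace Rp

variable (D : Rp π t ρ)
include D

theorem gd_eq {m : ℕ} {a b : X} (ha : Gd t ρ m a) (hb : Gd t ρ m b) (h : π a = π b) : ρ a = ρ b := by
  rcases ha with e | ha
  · rcases D.eq_or h with rfl | rfl <;> simp [e]
  rcases hb with e | hb
  · rcases D.eq_or h with rfl | rfl <;> simp [e]
  rw [D.eq_of_odd ha.1 h ha.2 hb.2]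

theorem gd_comm {m : ℕ} {a x : X} (ha : Gd t ρ m a) (h : Commute (π x) (π a)) :
    Commute (ρ a) (ρ x) := by
  have := D.gd_eq (a := x * a * x⁻¹) (ha.imp_right fun h => ⟨h.1, by rw [conj_pow, h.2]; simp⟩) ha
    (by simp [h.eq])
  rw [Commute, SemiconjBy, ← this, ← map_mul, ← map_mul, inv_mul_cancel_right, map_mul, map_mul ρ x,
    this]

theorem exists_gd {m : ℕ} (H : ρ t = 1 ∨ Odd m) {σ : Perm Ω} (h : sign σ = 1) (h' : σ ^ m = 1) :
    ∃ a, π a = σ ∧ Gd t ρ m a :=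
  H.elim (fun e => (D.surj σ h).imp fun _ h => ⟨h, .inl e⟩) fun e =>
    (D.exists_odd e h').imp fun _ h => ⟨h.1, .inr ⟨e, h.2⟩⟩

variable [FiniteDimensional K V] [IsAlgClosed K]

theorem orb {N m : ℕ} (hm : (m : K) ≠ 0) (j : Fin N ↪ Ω) {a₀ b₀ : Perm (Fin N)} {L B P}
    (H : Dat a₀ b₀ m L B P) {a b : X} (ha : π a = viaEmbeddingHom j a₀)
    (hb : π b = viaEmbeddingHom j b₀) (ga : Gd t ρ m a) (gb : Gd t ρ m b) {F : End K V}
    (hF : Commute (ρ a) F) (h0 : (ρ a - 1) * F ≠ 0) : ∃ W y, Inv π ρ (B.map j)ᶜ W ∧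
      (∃ v ∈ W, F v ≠ 0 ∧ (y = 0 → ρ b v = v)) ∧
      (P y → finrank K (E2 (ρ a) (ρ b) 1 1) + L.length * finrank K W ≤ finrank K V) := by
  classical
  obtain ⟨⟨-, h1, h2, h3, h4⟩, h5, h6⟩ := H
  have := NeZero.mk hm
  have := NeZero.of_neZero_natCast K (n := m)
  obtain ⟨ζ, hζ⟩ := HasEnoughRootsOfUnity.exists_primitiveRoot K m
  have h7 : Commute (π b) (π a) := by rw [ha, hb]; exact (Commute.symm h3).map _
  have h8 : ∀ {c c₀}, π c = viaEmbeddingHom j c₀ → Gd t ρ m c → c₀ ^ m = 1 → ρ c ^ m = 1 :=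
    fun h g e => by
      rw [← map_pow, D.gd_eq (g.imp_right fun h => ⟨h.1, by rw [h.2, one_pow]⟩)
        (g.imp_right fun h => ⟨h.1, one_pow _⟩) (by rw [map_pow, h, ← map_pow, e]; simp), map_one]
  obtain ⟨x, hx, y, hy, v, hv, h9⟩ := exists_wt hm (h8 ha ga h1) (h8 hb gb h2) (D.gd_comm ga h7) hζ h0
  obtain ⟨v1, v2⟩ := mem_E2.1 hv
  rw [End.mul_apply, LinearMap.sub_apply, ← End.mul_apply, hF.eq, End.mul_apply, v1, map_smul,
    End.one_apply] at h9
  refine ⟨E2 (ρ a) (ρ b) (ζ ^ x) (ζ ^ y), y, fun g hg u hu => ?_, ⟨v, hv, fun e => by simp [e] at h9,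
    fun e => by simpa [e] using v2⟩, fun hP => ?_⟩
  · rw [mem_E2] at hu ⊢
    rw [← End.mul_apply, ← End.mul_apply, D.gd_comm ga (comm_on (via_on (fun i h => (h4 i h).1) ha) hg),
      D.gd_comm gb (comm_on (via_on (fun i h => (h4 i h).2) hb) hg)]
    simp [hu.1, hu.2]
  have h10 := h6 x hx y hy (fun e => by simp [e] at h9) hP
  let f : ℕ × ℕ → Fin 2 → K := fun e => ![ζ ^ e.1, ζ ^ e.2]
  have h11 := h10.map_on (f := f) fun e he e' he' h => by
    have : ∀ e ∈ ((0, 0) :: L.map fun e => ((e.2.1 * x + e.2.2.1 * y) % m,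
      (e.2.2.2.1 * x + e.2.2.2.2 * y) % m)), e.1 < m ∧ e.2 < m := by
      simp only [List.forall_mem_cons, List.forall_mem_map]
      simp [Nat.mod_lt, NeZero.pos m]
    exact Prod.ext (hζ.pow_inj (this e he).1 (this e' he').1 (congrFun h 0))
      (hζ.pow_inj (this e he).2 (this e' he').2 (congrFun h 1))
  refine le_trans ?_ ((List.sum_toFinset _ h11).ge.trans (sum_finrank_wsp_le ![ρ a, ρ b] _))
  simp only [List.map_cons, List.sum_cons, List.map_map, f, pow_zero]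
  refine Nat.add_le_add_left ?_ _
  rw [← smul_eq_mul, ← List.length_map]
  refine List.card_nsmul_le_sum _ _ fun n hn => ?_
  obtain ⟨e, he, rfl⟩ := List.mem_map.1 hn
  obtain ⟨g, hg⟩ := D.surj _ ((sign_via j e.1).trans (h5 e he).1)
  have h12 : ∀ {c c₀ α β}, π c = viaEmbeddingHom j c₀ → Gd t ρ m c →
      c₀ * e.1 = e.1 * (a₀ ^ α * b₀ ^ β) → ∀ u ∈ E2 (ρ a) (ρ b) (ζ ^ x) (ζ ^ y),
      ρ c (ρ g u) = ζ ^ ((α * x + β * y) % m) • ρ g u := fun {c c₀ α β} hc gc e u hu => by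
    rw [rep_conj_apply ρ (g := g) (a := g⁻¹ * c * g) (by group), D.gd_eq (a := g⁻¹ * c * g) (b := a ^ α * b ^ β)
      (gc.imp_right fun h => ⟨h.1, by simpa [h.2] using conj_pow (a := g⁻¹) (b := c) (i := m)⟩)
      (ga.elim .inl fun h => gb.imp_right fun h' => ⟨h.1, by
        rw [((D.comm_of_odd h.1 h.2 h7).symm.pow_pow _ _).mul_pow, pow_right_comm, h.2,
          pow_right_comm, h'.2]; simp⟩)
      (by simp only [map_mul, map_inv, map_pow, hg, hc, ha, hb]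
          rw [mul_assoc, inv_mul_eq_iff_eq_mul, ← map_mul, e]; simp),
      map_mul, map_pow, map_pow, End.mul_apply, pow_eig (mem_E2.1 hu).2, map_smul,
      pow_eig (mem_E2.1 hu).1, smul_smul, map_smul, ← pow_eq_pow_mod _ hζ.pow_eq_one]
    congr 1
    ring
  exact LinearMap.finrank_le_finrank_of_injective (f := (ρ g).restrict fun u hu =>
    mem_E2.2 ⟨h12 ha ga (h5 e he).2.1 u hu, h12 hb gb (h5 e he).2.2 u hu⟩) fun u v e =>
      Subtype.ext (rep_injective ρ g (congrArg Subtype.val e))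

theorem blk {N m : ℕ} (hm : (m : K) ≠ 0) (j : Fin N ↪ Ω) {a₀ b₀ : Perm (Fin N)} {L B}
    (H : Dat a₀ b₀ m L B fun _ => True) {a b : X} (ha : π a = viaEmbeddingHom j a₀)
    (hb : π b = viaEmbeddingHom j b₀) (ga : Gd t ρ m a) (gb : Gd t ρ m b) :
    Blk π ρ (B.map j)ᶜ a (finrank K (E2 (ρ a) (ρ b) 1 1)) L.length :=
  have h := via_on (fun i h => (H.1.2.2.2.2 i h).1) ha
  ⟨h, fun e => H.1.1 (viaEmbeddingHom_injective j (by rw [← ha, e, map_one])),
    fun _ hx => D.gd_comm ga (comm_on h hx), fun _ h1 h2 => by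
      obtain ⟨W, y, h3, ⟨v, h4, h5, -⟩, h6⟩ := D.orb hm j H ha hb ga gb h1 h2
      exact ⟨W, h3, ⟨v, h4, h5⟩, h6 trivial⟩⟩

theorem blk' {N m : ℕ} (hm : (m : K) ≠ 0) (hN : N ≤ Fintype.card Ω) (h : ρ t = 1 ∨ Odd m)
    {a₀ b₀ : Perm (Fin N)} {L B} (H : Dat a₀ b₀ m L B (fun _ => True) ∧ sign a₀ = 1 ∧ sign b₀ = 1) :
    ∃ T a e, T.card + B.card = Fintype.card Ω ∧ Blk π ρ T a e L.length := by
  obtain ⟨j⟩ : Nonempty (Fin N ↪ Ω) := Function.Embedding.nonempty_of_card_le (by simpa)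
  obtain ⟨a, ha, ga⟩ := D.exists_gd h ((sign_via j a₀).trans H.2.1) (by rw [← map_pow, H.1.1.2.1, map_one])
  obtain ⟨b, hb, gb⟩ := D.exists_gd h ((sign_via j b₀).trans H.2.2)
    (by rw [← map_pow, H.1.1.2.2.1, map_one])
  exact ⟨_, a, _, by rw [← card_map j, card_compl_add_card], D.blk hm j H.1 ha hb ga gb⟩

theorem blk3 (h : (3 : K) ≠ 0) (hr : 5 ≤ Fintype.card Ω) :
    ∃ T a e, T.card + 3 = Fintype.card Ω ∧ Blk π ρ T a e 2 :=
  D.blk' (m := 3) h hr (.inr (by decide)) (a₀ := c[0, 1, 2]) (b₀ := 1) (B := {0, 1, 2})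
    (L := [(1, 1, 0, 0, 1), (c[0, 1] * c[3, 4], 2, 0, 0, 1)]) (by decide +kernel)

theorem blk5 (h : (5 : K) ≠ 0) (hr : 7 ≤ Fintype.card Ω) :
    ∃ T a e, T.card + 5 = Fintype.card Ω ∧ Blk π ρ T a e 4 :=
  D.blk' (m := 5) h hr (.inr (by decide)) (a₀ := c[0, 1, 2, 3, 4]) (b₀ := 1) (B := {0, 1, 2, 3, 4})
    (L := (List.range 4).map fun i => ((c[1, 3, 4, 2] * c[5, 6]) ^ i, 2 ^ i, 0, 0, 1))
    (by decide +kernel)

theorem blk7 (h : (7 : K) ≠ 0) (hr : 9 ≤ Fintype.card Ω) :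
    ∃ T a e, T.card + 7 = Fintype.card Ω ∧ Blk π ρ T a e 6 :=
  D.blk' (m := 7) h hr (.inr (by decide)) (a₀ := c[0, 1, 2, 3, 4, 5, 6]) (b₀ := 1)
    (B := {0, 1, 2, 3, 4, 5, 6})
    (L := (List.range 6).map fun i => ((c[1, 5, 4, 6, 2, 3] * c[7, 8]) ^ i, 3 ^ i % 7, 0, 0, 1))
    (by decide +kernel)

theorem blk6 (h : (3 : K) ≠ 0) (hr : 6 ≤ Fintype.card Ω) :
    ∃ T a e, T.card + 6 = Fintype.card Ω ∧ Blk π ρ T a e 4 :=
  D.blk' (m := 3) h hr (.inr (by decide)) (a₀ := c[0, 1, 2]) (b₀ := c[3, 4, 5]) (B := univ)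
    (L := [(1, 1, 0, 0, 1), (c[0, 3] * c[1, 4, 2, 5], 0, 2, 1, 0), (c[1, 2] * c[4, 5], 2, 0, 0, 2),
      (c[0, 3] * c[1, 5, 2, 4], 0, 1, 2, 0)]) (by decide +kernel)

theorem blk4 (h : (2 : K) ≠ 0) (h' : ρ t = 1) (hr : 4 ≤ Fintype.card Ω) :
    ∃ T a e, T.card + 4 = Fintype.card Ω ∧ Blk π ρ T a e 3 :=
  D.blk' (m := 2) h hr (.inl h') (a₀ := c[0, 1] * c[2, 3]) (b₀ := c[0, 2] * c[1, 3]) (B := univ)
    (L := [(1, 1, 0, 0, 1), (c[0, 1, 2], 0, 1, 1, 1), (c[0, 2, 1], 1, 1, 1, 0)]) (by decide +kernel)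

omit [IsAlgClosed K]

theorem le_of_blk (hr : 5 ≤ Fintype.card Ω) (hρ : ∃ x, ρ x ≠ 1) {T a e c} (h : Blk π ρ T a e c) :
    ∃ W, Inv π ρ T W ∧ W ≠ ⊥ ∧ e + c * finrank K W ≤ finrank K V := by
  obtain ⟨x, hx⟩ := hρ
  obtain ⟨W, h1, ⟨v, h2, h3⟩, h4⟩ := h.bd 1 (Commute.one_right _) fun e =>
    hx (D.faith hr h.ne (by simpa [sub_eq_zero] using e) x)
  exact ⟨W, h1, fun e => h3 (by simpa [e] using h2), h4⟩

theorem le_of_blk' (hr : 5 ≤ Fintype.card Ω) (hρ : ∃ x, ρ x ≠ 1) {k c}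
    (h : ∃ T a e, T.card + k = Fintype.card Ω ∧ Blk π ρ T a e c) : c ≤ finrank K V := by
  obtain ⟨T, a, e, -, h⟩ := h
  obtain ⟨W, -, h1, h2⟩ := D.le_of_blk hr hρ h
  have := Submodule.one_le_finrank_iff.2 h1
  nlinarith

theorem le_of_spin (hS : Sp π t ρ) (hr : 5 ≤ Fintype.card Ω) (hρ : ∃ x, ρ x ≠ 1) {k c}
    (hk : k + 4 ≤ Fintype.card Ω) (h : ∃ T a e, T.card + k = Fintype.card Ω ∧ Blk π ρ T a e c) :
    2 * c ≤ finrank K V := by
  obtain ⟨T, a, e, hT, h⟩ := h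
  obtain ⟨W, h0, h1, h2⟩ := D.le_of_blk hr hρ h
  obtain ⟨j⟩ : Nonempty (Fin 4 ↪ T) := Function.Embedding.nonempty_of_card_le (by simp; omega)
  have hj : ∀ a b, (j a : Ω) = j b ↔ a = b := fun a b => by simp
  have h3 : ∀ a b c d : Fin 4, [a, b, c, d].Nodup → ∀ x, π x = swap (j a : Ω) (j b) *
      swap (j c : Ω) (j d) → x ∈ On π T ∧ x * x = t := fun a b c d hn x hx =>
    ⟨fun i hi => by
      have : ∀ a, i ≠ j a := fun a e => hi (e ▸ (j a).2)
      simp [hx, swap_apply_of_ne_of_ne, this],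
    hS.2.2 x _ _ _ _ (hn.map (Subtype.val_injective.comp j.injective)) hx⟩
  obtain ⟨x, hx⟩ := D.surj (swap (j 0 : Ω) (j 1) * swap (j 2 : Ω) (j 3)) (by simp [hj])
  obtain ⟨y, hy⟩ := D.surj (swap (j 0 : Ω) (j 2) * swap (j 1 : Ω) (j 3)) (by simp [hj])
  obtain ⟨h4, h5⟩ := h3 _ _ _ _ (by decide) x hx
  obtain ⟨h6, h7⟩ := h3 _ _ _ _ (by decide) y hy
  obtain ⟨-, h8⟩ := h3 0 3 1 2 (by decide) (x * y) (by
    ext i
    simp only [map_mul, hx, hy, Perm.coe_mul, comp_apply, swap_apply_def]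
    grind)
  obtain ⟨v, hv, h9⟩ := (Submodule.ne_bot_iff W).1 h1
  have := two_le (h0 x h4) (h0 y h6) hv fun e => h9 (by
    have := congrArg (fun u => ρ x (ρ y u)) e
    simp only [← rep_mul_apply, ← mul_assoc] at this
    rw [mul_assoc _ x y, h8, mul_assoc x, h7, D.cen, mul_assoc, h5, D.sq, hS.1, map_one] at this
    simpa [hS.2.1, neg_eq_iff_add_eq_zero, ← two_smul K v] using this)
  nlinarith

theorem step (hs : ¬ Star π ρ) (hr : 8 ≤ Fintype.card Ω) {T a e c} (hT : 3 ≤ T.card)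
    (h : Blk π ρ T a e c) : ∃ (W : Submodule K V) (hW : Inv π ρ T W), (∃ x, hW.rep x ≠ 1) ∧
      e + c * finrank K W ≤ finrank K V := by
  obtain ⟨j⟩ : Nonempty (Fin 3 ↪ T) := Function.Embedding.nonempty_of_card_le (by simpa)
  obtain ⟨g, hg, hg'⟩ := D.exists_c3 (α := j 1) (β := j 2) (i := j 0) (by simp) (by simp) (by simp)
  have h1 := c3_on hg (j 1).2 (j 2).2 (j 0).2
  have h2 : (π g).IsThreeCycle := hg ▸ isThreeCycle_swap_mul_swap_same (by simp) (by simp) (by simp)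
  obtain ⟨W, hW, ⟨v, h3, h4⟩, h5⟩ := h.bd (ρ g - 1) ((h.comm g h1).sub_right (Commute.one_right _))
    fun e => hs fun k hk hk' v => by
      have h3 : ∀ v, ρ g v - v ∈ Fx π ρ (π g).supportᶜ := fun v =>
        D.faith' (by rw [card_compl, h2.card_support]; omega) (W := LinearMap.range (ρ g - 1))
          (by
            rintro x hx _ ⟨u, rfl⟩
            have := (D.comm_of_odd (by decide) hg' (comm_on (T := (π g).supportᶜ)
              (fun i hi => by simpa using hi) hx)).map ρ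
            exact ⟨ρ x u, by simp [← End.mul_apply, this.eq]⟩)
          (y := a) (fun i hi => h.supp i fun e => by
            simp only [mem_compl, not_not, Perm.mem_support] at hi e
            exact hi (h1 i e)) h.ne (by
            rintro _ ⟨u, rfl⟩
            simpa [sub_eq_zero] using LinearMap.congr_fun e u) ⟨v, rfl⟩
      obtain ⟨c, hc⟩ := isConj_iff.1 (alternatingGroup.isThreeCycle_isConj (by simp; omega)
        (σ := ⟨π g, D.sgn g⟩) (τ := ⟨π k, D.sgn k⟩) h2 hk)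
      obtain ⟨y, hy⟩ := D.surj c c.2
      have h4 : π (y * g * y⁻¹) = π k := by simpa [hy] using congrArg Subtype.val hc
      obtain rfl := D.eq_of_odd (by decide) h4 (by rw [conj_pow, hg']; simp) hk'
      convert Fx.map (h3 (ρ y⁻¹ v)) y (T' := (π (y * g * y⁻¹)).supportᶜ) fun i => by simp
      simp [← rep_mul_apply ρ y y⁻¹]
  exact ⟨W, hW, ⟨⟨g, h1⟩, fun e => h4 (sub_eq_zero.2
    (congrArg Subtype.val (LinearMap.congr_fun e ⟨v, h3⟩)))⟩, h5⟩

theorem two_le' (hr : 5 ≤ Fintype.card Ω) (hρ : ∃ x, ρ x ≠ 1) : 2 ≤ finrank K V := by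
  obtain ⟨j⟩ : Nonempty (Fin 4 ↪ Ω) := Function.Embedding.nonempty_of_card_le (by simp; omega)
  obtain ⟨h, hh, -⟩ := D.exists_c3 (α := j 1) (β := j 2) (i := j 0) (by simp) (by simp) (by simp)
  obtain ⟨g, hg, -⟩ := D.exists_c3 (α := j 1) (β := j 2) (i := j 3) (by simp) (by simp) (by simp)
  obtain ⟨x, hx⟩ := hρ
  by_contra h1
  refine hx (D.faith hr (y := (g * h)⁻¹ * (h * g)) (fun e => ?_) (LinearMap.ext fun v =>
    rep_injective ρ (g * h) ?_) x)
  · simpa [hh, hg, c3, swap_apply_def] using congrArg (· (j 1)) e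
  · rw [← rep_mul_apply, mul_inv_cancel_left, rep_mul_apply, rep_mul_apply]
    by_contra h2
    exact h1 (finrank_top K V ▸ two_le (fun _ _ => trivial) (fun _ _ => trivial) trivial h2)

theorem four_le [IsAlgClosed K] (hr : 6 ≤ Fintype.card Ω) (hρ : ∃ x, ρ x ≠ 1)
    (h : (3 : K) = 0 → 7 ≤ Fintype.card Ω) : 4 ≤ finrank K V := by
  by_cases h3 : (3 : K) = 0
  · exact D.le_of_blk' (by omega) hρ (D.blk5 (fun e => one_ne_zero (α := K)
      (by linear_combination 2 * h3 - e)) (h h3))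
  · exact D.le_of_blk' (by omega) hρ (D.blk6 h3 hr)

theorem nine_le [IsAlgClosed K] (hs : ¬ Star π ρ) (hr : 10 ≤ Fintype.card Ω) (hρ : ∃ x, ρ x ≠ 1)
    (h : (5 : K) ≠ 0) : 9 ≤ finrank K V := by
  obtain ⟨j⟩ : Nonempty (Fin 10 ↪ Ω) := Function.Embedding.nonempty_of_card_le (by simpa)
  obtain ⟨a, ha, ga⟩ := D.exists_odd (m := 5) (by decide) (σ := viaEmbeddingHom j c[0, 1, 2, 3, 4])
    ((map_pow _ _ _).symm.trans ((congrArg _ (by decide +kernel)).trans (map_one _)))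
  obtain ⟨b, hb, gb⟩ := D.exists_odd (m := 5) (by decide) (σ := viaEmbeddingHom j c[5, 6, 7, 8, 9])
    ((map_pow _ _ _).symm.trans ((congrArg _ (by decide +kernel)).trans (map_one _)))
  obtain ⟨x, hx⟩ := hρ
  obtain ⟨W, y, -, ⟨v, h1, h2, h3⟩, h4⟩ := D.orb (m := 5) h j (B := univ) (P := (· ≠ 0))
    (L := ((List.range 4).map fun i => ((c[1, 3, 4, 2] * c[6, 8, 9, 7]) ^ i, 2 ^ i, 0, 0, 2 ^ i)) ++
      ((List.range 4).map fun i => ((c[1, 3, 4, 2] * c[6, 8, 9, 7]) ^ i * c[1, 4] * c[2, 3],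
        4 * 2 ^ i, 0, 0, 2 ^ i)) ++
      [(c[0, 5] * c[1, 6] * c[2, 7] * c[3, 8] * c[4, 9] * c[1, 3, 4, 2], 0, 1, 2, 0)])
    (by decide +kernel) ha hb (.inr ⟨by decide, ga⟩) (.inr ⟨by decide, gb⟩) (Commute.one_right _)
    fun e => hx (D.faith (by omega) (y := a) (fun e => absurd (viaEmbeddingHom_injective j
      (ha.symm.trans (e.trans (map_one _).symm))) (by decide +kernel))
      (by simpa [sub_eq_zero] using e) x)
  by_cases hy : y = 0
  · obtain ⟨W, hW, h5, h6⟩ := D.step hs (by omega) (by rw [card_compl, card_map]; simp; omega)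
      (D.blk (m := 5) h j (b₀ := 1) (B := {5, 6, 7, 8, 9}) (L := (List.range 4).map fun i =>
        ((c[6, 8, 9, 7] * c[0, 1]) ^ i, 2 ^ i, 0, 0, 1)) (by decide +kernel) hb (b := 1) (by simp)
        (.inr ⟨by decide, gb⟩) (.inr ⟨by decide, one_pow _⟩))
    have := (D.res hW).two_le' (by rw [Fintype.card_coe, card_compl, card_map]; simp; omega) h5
    have := Submodule.one_le_finrank_iff.2 ((Submodule.ne_bot_iff (E2 (ρ b) (ρ 1) 1 1)).2
      ⟨v, mem_E2.2 (by simp [h3 hy]), h2⟩)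
    simp only [List.length_map, List.length_range] at h6
    omega
  · have := h4 hy
    have := Submodule.one_le_finrank_iff.2 ((Submodule.ne_bot_iff W).2 ⟨v, h1, h2⟩)
    simp only [List.length_append, List.length_map, List.length_range, List.length_singleton] at *
    omega

end Rp

universe u v

theorem bd_of_rp [IsAlgClosed K] (r : ℕ) : ∀ {Ω : Type} [Fintype Ω] [DecidableEq Ω] {X : Type u}
    [Group X] {V : Type v} [AddCommGroup V] [Module K V] [FiniteDimensional K V] {π : X →* Perm Ω}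
    {t : X} {ρ : X →* End K V}, Rp π t ρ → (∃ x, ρ x ≠ 1) → Fintype.card Ω = r → 9 ≤ r →
    Bd K r (finrank K V) := by
  induction' r using Nat.strong_induction_on with r ih
  intro Ω _ _ X _ V _ _ _ π t ρ D hρ hr h9
  by_cases hs : Star π ρ
  · exact hr ▸ D.of_star hs (by omega) hρ
  have H : ∀ {k c m}, (∃ T a e, T.card + k = Fintype.card Ω ∧ Blk π ρ T a e c) → k + 3 ≤ r →
      (∀ (T : Finset Ω) (W : Submodule K V) (hW : Inv π ρ T W), Fintype.card T + k = r →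
        (∃ x, hW.rep x ≠ 1) → m ≤ finrank K W) → c * m ≤ finrank K V := by
    rintro k c m ⟨T, a, e, h1, h2⟩ h3 h4
    obtain ⟨W, hW, h5, h6⟩ := D.step hs (by omega) (by omega) h2
    have := Nat.mul_le_mul_left c (h4 T W hW (by simp; omega) h5)
    omega
  have H' : ∀ {k c}, (∃ T a e, T.card + k = Fintype.card Ω ∧ Blk π ρ T a e c) → 0 < k → k + 9 ≤ r →
      c * (r - k - 2) ≤ finrank K V := fun h h1 h2 => H h (by omega) fun T W hW h3 h4 => by
    have := ih _ (by omega) (D.res hW) h4 rfl (by omega)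
    unfold Bd at this
    omega
  have h35 : (3 : K) = 0 → (5 : K) ≠ 0 := fun h e => one_ne_zero (α := K)
    (by linear_combination 2 * h - e)
  have h4 : (3 : K) = 0 ∨ (5 : K) = 0 → (2 : K) ≠ 0 ∧ (7 : K) ≠ 0 := fun h =>
    ⟨fun e => one_ne_zero (α := K) (h.elim (fun h => by linear_combination h - e)
      fun h => by linear_combination h - 2 * e), fun e => one_ne_zero (α := K)
      (h.elim (fun h => by linear_combination e - 2 * h) fun h => by linear_combination 3 * h - 2 * e)⟩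
  unfold Bd
  rcases (by omega : r = 9 ∨ r = 10 ∨ r = 11 ∨ 12 ≤ r) with rfl | rfl | rfl | h12
  · by_cases h3 : (3 : K) = 0
    · refine .inr ⟨by linear_combination 3 * h3, ?_⟩
      rcases D.sc with h | h
      · have := H (D.blk4 (h4 (.inl h3)).1 h (by omega)) (by omega) (m := 3) fun T W hW h5 h6 =>
          (D.res hW).le_of_blk' (by omega) h6 ((D.res hW).blk4 (h4 (.inl h3)).1
            (by ext; simp [Inv.rep, h]) (by omega))
        omega
      · have := D.le_of_spin h (by omega) hρ (by omega) (D.blk5 (h35 h3) (by omega))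
        omega
    · have := H (D.blk3 h3 (by omega)) (by omega) fun T W hW h5 h6 =>
        (D.res hW).four_le (by omega) h6 (absurd · h3)
      omega
  · by_cases h5 : (5 : K) = 0
    · have := H (D.blk3 (h35 · h5) (by omega)) (by omega) fun T W hW h5 h6 =>
        (D.res hW).four_le (by omega) h6 fun _ => by omega
      exact .inr ⟨by linear_combination 2 * h5, by omega⟩
    · have := D.nine_le hs hr.ge hρ h5
      omega
  · by_cases h : (3 : K) = 0 ∨ (5 : K) = 0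
    · rcases D.sc with h' | h'
      · have := H (D.blk4 (h4 h).1 h' (by omega)) (by omega) fun T W hW h5 h6 =>
          (D.res hW).four_le (by omega) h6 fun _ => by omega
        omega
      · have := D.le_of_spin h' (by omega) hρ (by omega) (D.blk7 (h4 h).2 (by omega))
        omega
    · have := H (D.blk5 (not_or.1 h).2 (by omega)) (by omega) fun T W hW h5 h6 =>
        (D.res hW).four_le (by omega) h6 (absurd · (not_or.1 h).1)
      omega
  · by_cases h3 : (3 : K) = 0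
    · by_cases h14 : 14 ≤ r
      · have := H' (D.blk5 (h35 h3) (by omega)) (by omega) (by omega)
        omega
      · have := H (D.blk5 (h35 h3) (by omega)) (by omega) fun T W hW h5 h6 =>
          (D.res hW).four_le (by omega) h6 fun _ => by omega
        omega
    · have := H' (D.blk3 h3 (by omega)) (by omega) (by omega)
      omega

end CF.AltD
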