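import Cfsg.Agent.AltD.B
import Cfsg.Agent.ExA.A
import Cfsg.Agent.S0892
import Cfsg.Agent.Recog.DC

/-! Alternating sections of linear groups. -/

set_option autoImplicit false

namespace CF.AltD

open Function hiding swap
open Subgroup Equiv Equiv.Perm Module CF.Classical CF.ExA CF.Fus
open scoped commutatorElement IsMulCommutative

/-- The natural representation after extending scalars. -/
noncomputable def glRep {F K : Type*} [Field F] [Field K] (f : F →+* K) (n : ℕ) :
    GL (Fin n) F →* End K (Fin n → K) :=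
  (Matrix.toLinAlgEquiv' (R := K) (n := Fin n)).toMulEquiv.toMonoidHom.comp
    (f.mapMatrix.toMonoidHom.comp (Units.coeHom _))

theorem glRep_inj {F K : Type*} [Field F] [Field K] (f : F →+* K) (n : ℕ) : Injective (glRep f n) :=
  (Matrix.toLinAlgEquiv' (R := K) (n := Fin n)).injective.comp ((Matrix.map_injective f.injective).comp Units.val_injective)

theorem sq_lt_two_pow {m : ℕ} (h : 5 ≤ m) : m * m < 2 ^ m := by
  induction m, h using Nat.le_induction with
  | base => decide
  | succ m h ih => rw [pow_succ]; nlinarith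

theorem two_mul_card (r : ℕ) (h : 2 ≤ r) : 2 * Nat.card (alternatingGroup (Fin r)) = r.factorial := by
  have := Fin.nontrivial_iff_two_le.2 h
  rw [two_mul_nat_card_alternatingGroup, Nat.card_perm, Nat.card_fin]

variable {r : ℕ} {X : Type*} [Group X] [Finite X] {φ : X →* alternatingGroup (Fin r)}
  {K V : Type*} [Field K] [IsAlgClosed K] [AddCommGroup V] [Module K V] [FiniteDimensional K V]
  {ρ : X →* End K V} (hm : Min φ) (h9 : 9 ≤ r) (hi : Injective ρ)
  (irr : ∀ W : Submodule K V, (∀ g, W ≤ W.comap (ρ g)) → W = ⊥ ∨ W = ⊤)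
include hm h9

omit [Finite X] in
theorem _root_.CF.ExA.Min.hom_comm {A : Type*} [CommGroup A] (f : X →* A) (x : X) : f x = 1 :=
  Abelianization.commutator_subset_ker f ((hm.perfect (commutator_alternatingGroup_eq_top
    (by simp; omega))).ge (mem_top x))

include hi

omit [Finite X] [IsAlgClosed K] [FiniteDimensional K V] in
theorem top_ne_bot : (⊤ : Submodule K V) ≠ ⊥ := fun e => by
  have := (Submodule.subsingleton_iff K).1 (subsingleton_of_bot_eq_top e.symm)
  have := hi.subsingleton
  have := hm.surj.subsingleton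
  have := alternatingGroup.isSimpleGroup (α := Fin r) (by simp; omega)
  exact false_of_nontrivial_of_subsingleton (alternatingGroup (Fin r))

include irr

theorem scalar (hn : finrank K V + 2 ≤ r) (A : Subgroup X) [A.Normal]
    (hA : ∀ a ∈ A, ∀ b ∈ A, Commute a b) : ∀ a ∈ A, ∃ c : K, ρ a = c • 1 := by
  have := alternatingGroup.isSimpleGroup (α := Fin r) (by simp; omega)
  obtain ⟨l, v, -, h1, h2⟩ := exists_joint_eigen (fun a : A => ρ a) ⊤ (top_ne_bot hm h9 hi)
    (fun _ _ _ => trivial) fun a b v _ => by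
      rw [← rep_mul_apply, (hA a a.2 b b.2).eq, rep_mul_apply]
  let _ : MulAction X A := MulAction.compHom A (MulAut.conjNormal (H := A))
  let _ : MulAction X (A → K) := arrowAction
  have h3 : ∀ g : X, ∀ v ∈ wsp (fun a : A => ρ a) l, ρ g v ∈ wsp (fun a : A => ρ a) (g • l) :=
    fun g v hv a => by
      rw [rep_conj_apply ρ (g := g) (a := (g⁻¹ • a : A)) (by
        change g * (g⁻¹ * a * g⁻¹⁻¹) * g⁻¹ = a
        group), hv, map_smul]
      rfl
  have : Finite (MulAction.orbit X l) := Set.finite_range _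
  have h4 := card_mul_le_of_wsp (fun a : A => ρ a) (P := MulAction.orbit X l) Subtype.val (d := 1)
    (c := 1) (by
      rintro ⟨_, g, rfl⟩
      exact one_le_finrank_wsp (fun e => h1 (rep_injective ρ g (e.trans (map_zero _).symm)))
        (h3 g v h2)) fun p => Finite.card_le_one_iff_subsingleton.2
      ⟨fun a b => Subtype.ext (Subtype.ext (a.2.trans b.2.symm))⟩
  have h5 := hm.hom_eq_one (MulAction.toPermHom X (MulAction.orbit X l)) fun e => by
    have h5 := Nat.le_of_dvd Nat.card_pos e.card_dvd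
    rw [Nat.card_perm] at h5
    have h6 := two_mul_card r (by omega)
    obtain ⟨m, rfl⟩ : ∃ m, r = m + 2 := ⟨r - 2, by omega⟩
    have h7 := h5.trans (Nat.factorial_le (n := m) (by omega))
    rw [Nat.factorial_succ, Nat.factorial_succ] at h6
    have := Nat.mul_le_mul_right ((m + 1) * m.factorial) (show 3 ≤ m + 1 + 1 by omega)
    have := Nat.le_mul_of_pos_left m.factorial (show 0 < m + 1 by omega)
    have := m.factorial_pos
    omega
  have h6 := (irr (wsp (fun a : A => ρ a) l) fun g v hv => by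
    have := h3 g v hv
    rwa [show g • l = l from congrArg Subtype.val (DFunLike.congr_fun (h5 g)
      (⟨l, MulAction.mem_orbit_self l⟩ : MulAction.orbit X l))] at this).resolve_left fun e => h1 (by simpa [e] using h2)
  exact fun a ha => ⟨l ⟨a, ha⟩, LinearMap.ext fun v => h6.ge trivial ⟨a, ha⟩⟩

theorem bd_of_cen (hn : finrank K V + 2 ≤ r) (hc : φ.ker ≤ center X) : Bd K r (finrank K V) := by
  have := alternatingGroup.isSimpleGroup (α := Fin r) (by simp; omega)
  have h1 := Cfsg.Agent.S0892.result r (by omega) (by omega) (by omega) φ.ker hc (by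
    rw [hm.perfect (commutator_alternatingGroup_eq_top (by simp; omega))]; exact le_top)
    (QuotientGroup.quotientKerEquivOfSurjective φ hm.surj)
  let π := (alternatingGroup (Fin r)).subtype.comp φ
  have h2 : ∀ x, π x = 1 ↔ x ∈ φ.ker := fun x => by simp [π]
  have h3 : ∀ σ, sign σ = 1 → ∃ h, π h = σ := fun σ h =>
    (hm.surj ⟨σ, h⟩).imp fun _ e => congrArg Subtype.val e
  have h4 : ∃ x, ρ x ≠ 1 := by
    obtain ⟨x, hx⟩ := (have := hm.surj.nontrivial; exists_ne (1 : X))
    exact ⟨x, fun e => hx (hi (e.trans (map_one ρ).symm))⟩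
  by_cases h : ∀ x ∈ φ.ker, x = 1
  · exact bd_of_rp r (π := π) (t := 1) ⟨by simp, by simp, fun x e => .inl (h x ((h2 x).1 e)),
      fun x => (φ x).2, h3, .inl (map_one ρ)⟩ h4 (by simp) h9
  obtain ⟨t, ht, h⟩ := by simpa only [not_forall] using h
  have h5 : ∀ x, π x = 1 → x = 1 ∨ x = t := fun x e => by
    by_contra! h5
    have := Fintype.ofFinite φ.ker
    exact absurd ((Fintype.two_lt_card_iff (α := φ.ker)).2 ⟨⟨x, (h2 x).1 e⟩, 1, ⟨t, ht⟩, by simpa using h5.1,
      by simpa using h5.2, fun e => h (congrArg Subtype.val e).symm⟩) (by rwa [← Nat.card_eq_fintype_card, not_lt])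
  have h6 : t * t = 1 := (h5 _ ((h2 _).2 (mul_mem ht ht))).resolve_right (by simpa)
  have D := Recog.DC0.dc (π := π) (t := t) ⟨h, h6, mem_center_iff.1 (hc ht), (h2 t).2 ht, h5,
    fun x => (φ x).2, h3⟩ fun s hs => by
      obtain ⟨σ, rfl⟩ := (hm.min s.range (eq_top_iff.2 fun σ _ =>
        ⟨_, ⟨σ, rfl⟩, Subtype.ext (hs σ)⟩)).ge (mem_top t)
      exact h (by rw [show σ = 1 from Subtype.ext ((hs σ).symm.trans ((h2 _).2 ht)), map_one])
  obtain ⟨c, hc'⟩ := scalar hm h9 hi irr hn (center X) (fun a _ b hb => mem_center_iff.1 hb a) t (hc ht)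
  obtain ⟨v, -, hv⟩ := (Submodule.ne_bot_iff _).1 (top_ne_bot hm h9 hi)
  have h7 : c ≠ 1 := fun e => h (hi (by rw [hc', e, one_smul, map_one]))
  have h8 : c = -1 := (mul_self_eq_one_iff.1 (eq_of_smul_eq hv (by
    simpa [hc', smul_smul] using LinearMap.congr_fun (congrArg ρ h6) v))).resolve_left h7
  exact bd_of_rp r ⟨D.cen, D.πt, D.ker, D.sgn, D.surj, .inr ⟨by simp [hc', h8],
    fun e => h7 (by rw [h8]; linear_combination -e), D.q⟩⟩ h4 (by simp) h9

theorem cen_or (hn : finrank K V + 2 ≤ r) : φ.ker ≤ center X ∨ ∃ (ℓ d : ℕ) (_ : Fact ℓ.Prime)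
    (θ : X →* GL (Fin d) (ZMod ℓ)), ℓ ^ d ≤ finrank K V * finrank K V ∧ ∃ x, θ x ≠ 1 := by
  refine or_iff_not_imp_left.2 fun h => ?_
  obtain ⟨x, hx, h⟩ := SetLike.not_le_iff_exists.1 h
  obtain ⟨ℓ, hℓ, h1⟩ := Nat.exists_prime_and_dvd (n := orderOf (x : X ⧸ center X))
    fun e => h ((QuotientGroup.eq_one_iff x).1 (orderOf_eq_one_iff.1 e))
  have := Fact.mk hℓ
  obtain ⟨m, h2, k, h3⟩ := exists_pow_part hℓ x
  obtain ⟨P, h4, hP⟩ := exists_sylIn_ge (C := zpowers (x ^ m)) (B := φ.ker)
    (zpowers_le.2 (pow_mem hx m)) (isPGroup_zpowers h3)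
  obtain ⟨R, ⟨_, h5, h6⟩, h7⟩ := exists_minimal_of_wellFoundedLT
    (fun R : Subgroup X => R.Normal ∧ IsPGroup ℓ R ∧ ¬ R ≤ center X) ⟨P, hm.normal hP, hP.pg,
      fun e => hℓ.one_lt.ne' (Nat.Coprime.eq_one_of_dvd h2.symm (h1.trans
        (orderOf_dvd_of_pow_eq_one ((QuotientGroup.eq_one_iff _).2 (e (h4 (mem_zpowers _)))))))⟩
  have h8 : (frattini R).map R.subtype ≤ center X := by_contra fun e => by
    have h8 := h7 ⟨inferInstance, h5.to_le (map_subtype_le _), e⟩ (map_subtype_le _)
    have : (⊥ : Subgroup R) = ⊤ := frattini_nongenerating (by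
      rw [bot_sup_eq, eq_top_iff]
      intro y _
      obtain ⟨z, hz, e⟩ := h8 y.2
      exact Subtype.ext e ▸ hz)
    exact h6 fun y hy => by
      rw [show y = 1 from congrArg Subtype.val (this.ge (mem_top (⟨y, hy⟩ : R)))]; exact one_mem _
  have h9' : frattini R ≤ center R := fun y hy => mem_center_iff.2 fun z =>
    Subtype.ext (mem_center_iff.1 (h8 ⟨y, hy, rfl⟩) z)
  choose! s hs using scalar hm h9 hi irr hn (center X) fun a _ b hb => mem_center_iff.1 hb a
  have h10 : ∀ y ∈ center R, (y : X) ∈ center X := fun y hy => mem_center_iff.2 fun g => hi (by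
    obtain ⟨c, hc⟩ := scalar hm h9 hi irr hn ((center R).map R.subtype) (by
      rintro _ ⟨a, -, rfl⟩ _ ⟨b, hb, rfl⟩
      exact congrArg Subtype.val (mem_center_iff.1 hb a)) y ⟨y, hy, rfl⟩
    simp [hc])
  have h11 : ∀ y z : R, ⁅(y : X), (z : X)⁆ ∈ center X := fun y z => h8 ⟨⁅y, z⁆,
    CF.Fgs1.commutator_le_frattini h5 (commutator_mem_commutator (mem_top y) (mem_top z)), rfl⟩
  obtain ⟨d, hd⟩ := (h5.to_quotient (center R)).exists_card_eq
  have : IsMulCommutative (R ⧸ center R) :=
    Normal.quotient_commutative_iff_commutator_le.2 ((CF.Fgs1.commutator_le_frattini h5).trans h9')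
  obtain ⟨f⟩ := Fgs2.nonempty_mulAut_equiv_GL (V := R ⧸ center R) (p := ℓ) (fun x => by
    obtain ⟨x, rfl⟩ := QuotientGroup.mk_surjective x
    rw [← QuotientGroup.mk_pow, QuotientGroup.eq_one_iff]
    exact h9' (CF.Fgs1.pow_mem_frattini h5 x)) hd
  refine ⟨ℓ, d, ‹_›, f.toMonoidHom.comp ((Fgs2.quotAut (center R)).comp MulAut.conjNormal), ?_,
    by_contra fun h12 => h6 fun y hy => mem_center_iff.2 fun g => ?_⟩
  · obtain ⟨v, -, hv⟩ := (Submodule.ne_bot_iff _).1 (top_ne_bot hm h9 hi)
    have := card_mul_le_of_wsp (fun y : R => (LinearMap.mulLeft K (ρ y) ∘ₗ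
      LinearMap.mulRight K (ρ y⁻¹) : End K (End K V))) (P := R ⧸ center R)
      (fun e y => s ⁅(y : X), (e.out : R)⁆) (d := 1) (c := 1) (fun e => one_le_finrank_wsp
        (v := ρ e.out) (fun h => hv (rep_injective ρ e.out (by simp [h]))) fun y => by
          rw [← smul_one_mul, ← hs _ (h11 y e.out), ← map_mul]
          simp [commutatorElement_def, mul_assoc]) fun p => Finite.card_le_one_iff_subsingleton.2
      ⟨fun a b => Subtype.ext (by
        rw [← a.1.out_eq', ← b.1.out_eq', QuotientGroup.eq, mem_center_iff]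
        intro y
        have := hi ((hs _ (h11 y a.1.out)).trans ((congrArg (· • 1) (congrFun
          (a.2.trans b.2.symm) y)).trans (hs _ (h11 y b.1.out)).symm))
        refine Subtype.ext ?_
        calc (y * ((a.1.out : R)⁻¹ * (b.1.out : R)) : X) =
            (a.1.out : R)⁻¹ * ⁅(y : X), ((a.1.out : R) : X)⁆⁻¹ * y * (b.1.out : R) := by
              simp [commutatorElement_def, mul_assoc]
          _ = _ := by rw [this, commutatorElement_def]; simp [mul_assoc])⟩
    rwa [hd, mul_one, one_mul, finrank_linearMap] at this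
  · have h13 : ∀ g : X, ⁅g, y⁆ ∈ center X := fun g => by
      have h13 := h10 _ (Fgs2.mem_ker_quotAut.1 (f.injective (by simpa using not_exists.1 h12 g :
        f (Fgs2.quotAut (center R) (MulAut.conjNormal g)) = f 1)) ⟨y, hy⟩⁻¹)
      simpa [commutatorElement_def, mul_assoc] using inv_mem h13
    let ψ : X →* center X := MonoidHom.mk' (fun g => ⟨⁅g, y⁆, h13 g⟩) fun a b => Subtype.ext (by
      calc ⁅a * b, y⁆ = a * (⁅b, y⁆ * (y * a⁻¹ * y⁻¹)) := by simp [commutatorElement_def, mul_assoc]
        _ = ⁅a, y⁆ * ⁅b, y⁆ := by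
          rw [← mem_center_iff.1 (h13 b)]; simp [commutatorElement_def, mul_assoc])
    exact commutatorElement_eq_one_iff_mul_comm.1 (congrArg Subtype.val (hm.hom_comm h9 ψ g))

omit hm h9 hi irr

universe u w

theorem bd_of_min (h9 : 9 ≤ r) (n : ℕ) : ∀ {K V : Type u} [Field K] [IsAlgClosed K] [AddCommGroup V]
    [Module K V] [FiniteDimensional K V] {X : Type w} [Group X] [Finite X]
    {φ : X →* alternatingGroup (Fin r)} {ρ : X →* End K V}, Min φ → (∃ x, ρ x ≠ 1) →
    finrank K V = n → Bd K r n := by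
  induction' n using Nat.strong_induction_on with n ih
  intro K V _ _ _ _ _ X _ _ φ ρ hm hρ hn
  have := alternatingGroup.isSimpleGroup (α := Fin r) (by simp; omega)
  wlog hi : Injective ρ generalizing X
  · obtain ⟨x, hx⟩ := hρ
    have h1 : ρ.toHomUnits.ker ≤ φ.ker := by_contra fun e =>
      hx (congrArg Units.val ((hm.eq_top e).ge (mem_top x)))
    refine this (φ := QuotientGroup.lift _ φ h1) (ρ := (Units.coeHom _).comp
      (QuotientGroup.kerLift ρ.toHomUnits)) ⟨fun σ => ?_, fun Y hY => ?_⟩ ⟨x, hx⟩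
      (Units.val_injective.comp (QuotientGroup.kerLift_injective _))
    · obtain ⟨x, rfl⟩ := hm.surj σ
      exact ⟨x, rfl⟩
    · rw [← map_comap_eq_self_of_surjective (QuotientGroup.mk'_surjective _) Y, hm.min (Y.comap _)
        (by rw [← hY, ← map_comap_eq_self_of_surjective (QuotientGroup.mk'_surjective _) Y,
          Subgroup.map_map, comap_map_eq_self (ker_le_comap _ _)]; rfl),
        map_top_of_surjective _ (QuotientGroup.mk'_surjective _)]
  by_contra h0
  have h1 : n + 2 ≤ r := by unfold Bd at h0; omega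
  have h2 : ∀ m < n, ¬ Bd K r m := fun m h e => h0 (e.imp (by omega) (And.imp_right (by omega)))
  have irr : ∀ W : Submodule K V, (∀ g, W ≤ W.comap (ρ g)) → W = ⊥ ∨ W = ⊤ := fun W hW => by
    by_contra! h3
    have h4 := W.finrank_quotient_add_finrank
    have h5 := Submodule.finrank_lt h3.2
    have h6 := Submodule.one_le_finrank_iff.2 h3.1
    have h7 := mt (ih _ (by omega) hm (ρ := Representation.subrepresentation ρ W hW) · rfl)
      (h2 _ (by omega))
    have h8 := mt (ih _ (by omega) hm (ρ := Representation.quotient ρ W hW) · rfl) (h2 _ (by omega))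
    simp only [ne_eq, not_exists, not_not] at h7 h8
    have h10 : ∀ x y v, ρ x (ρ y v - v) = ρ y v - v := fun x y v =>
      congrArg Subtype.val (LinearMap.congr_fun (h7 x) ⟨_, (Submodule.Quotient.eq W).1
        (LinearMap.congr_fun (h8 y) (Submodule.Quotient.mk v))⟩)
    obtain ⟨x, hx⟩ := hρ
    let ψ : X →* Multiplicative (End K V) := MonoidHom.mk' (fun g => .ofAdd (ρ g - 1)) fun a b =>
      congrArg Multiplicative.ofAdd (LinearMap.ext fun v => by
        have := h10 a b v
        simp only [map_sub, map_mul, LinearMap.sub_apply, LinearMap.add_apply, End.mul_apply,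
          End.one_apply, toAdd_ofAdd] at this ⊢
        rw [sub_eq_iff_eq_add.1 this]
        abel)
    exact hx (sub_eq_zero.1 (hm.hom_comm h9 ψ x))
  subst hn
  rcases cen_or hm h9 hi irr h1 with h | ⟨ℓ, d, _, θ, h3, x, h4⟩
  · exact h0 (bd_of_cen hm h9 hi irr h1 h)
  have h5 := (Nat.pow_le_pow_left (Fact.out : ℓ.Prime).two_le d).trans h3
  by_cases h6 : d < finrank K V
  · have h7 := ih d h6 hm (ρ := (glRep (ZMod.castHom (dvd_refl ℓ)
      (AlgebraicClosure (ULift.{u} (ZMod ℓ)))) d).comp θ)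
      ⟨x, fun e => h4 (glRep_inj _ _ (e.trans (map_one _).symm))⟩ (by simp)
    have h8 := sq_lt_two_pow (m := r - 2) (by omega)
    have := Nat.pow_le_pow_right two_pos (show r - 2 ≤ d by unfold Bd at h7; omega)
    have := Nat.mul_self_le_mul_self (show finrank K V ≤ r - 2 by omega)
    omega
  · have h7 := Nat.mul_self_le_mul_self (not_lt.1 h6)
    have h8 : d ≤ 4 := by_contra fun e => absurd (sq_lt_two_pow (m := d) (by omega)) (by omega)
    have h10 := Nat.le_of_dvd Nat.card_pos (not_not.1 (mt (hm.hom_eq_one θ · x) h4)).card_dvd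
    have h11 : Nat.card (GL (Fin d) (ZMod ℓ)) ≤ _ := Nat.card_le_card_of_injective _ (Units.val_injective (α := Matrix (Fin d) (Fin d)
      (ZMod ℓ)))
    unfold Matrix at h11
    rw [Nat.card_fun, Nat.card_fun, Nat.card_zmod, Nat.card_fin] at h11
    have h12 := (Nat.pow_le_pow_left (h3.trans (h7.trans (Nat.mul_self_le_mul_self h8))) d).trans
      (Nat.pow_le_pow_right (by decide) h8)
    have h13 := two_mul_card r (by omega)
    have := Nat.factorial_le h9
    simp only [Nat.factorial] at this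
    omega

theorem bd_of_sec {F : Type*} [Field F] {p n : ℕ} [CharP F p] {G : Type*} [Group G] [Finite G]
    (f : G →* GL (Fin n) F) (hf : Injective f) (h : Sec (alternatingGroup (Fin r)) G) (h9 : 9 ≤ r) :
    r - 1 - (if p ∣ r then 1 else 0) ≤ n := by
  obtain ⟨X, φ, hm⟩ := h.exists_min
  have := alternatingGroup.isSimpleGroup (α := Fin r) (by simp; omega)
  obtain ⟨x, hx⟩ := (have := hm.surj.nontrivial; exists_ne (1 : X))
  have := bd_of_min h9 n hm (ρ := (glRep (algebraMap F (AlgebraicClosure F)) n).comp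
    (f.comp X.subtype)) ⟨x, fun e => hx (Subtype.ext (hf (glRep_inj _ _
      (e.trans (by simp)))))⟩ (by simp)
  rw [Bd, CharP.cast_eq_zero_iff _ p] at this
  split_ifs with h
  · omega
  · have := this.resolve_right fun e => h e.1
    omega

end CF.AltD
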