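import Mathlib
import Cfsg.Agent.S0043

/-! Pairs of `p`-elements of symmetric groups generating non-solvable groups, I. -/

set_option autoImplicit false

namespace CF.AltPe

open Subgroup Equiv
open scoped commutatorElement

/-- the product is not a `p`-element and the pair generates a non-solvable group -/
def Good (p : ℕ) {G : Type*} [Group G] (u w : G) : Prop :=
  (∀ j : ℕ, (u * w) ^ p ^ j ≠ 1) ∧ ¬ Group.IsSolvable (closure ({u, w} : Set G))

variable {p : ℕ} {G G' : Type*} [Group G] [Group G']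

theorem Good.of_map {u w : G} (f : G →* G') (h : Good p (f u) (f w)) : Good p u w := by
  refine ⟨fun j e => h.1 j (by rw [← map_mul, ← map_pow, e, map_one]), fun hs => h.2 ?_⟩
  rw [← Set.image_pair, ← MonoidHom.map_closure]
  exact Group.isSolvable_of_surjective (f.subgroupMap_surjective _)

theorem Good.map {u w : G} (f : G →* G') (hf : Function.Injective f) (h : Good p u w) :
    Good p (f u) (f w) := by
  refine ⟨fun j e => h.1 j (hf (by rw [map_pow, map_mul, e, map_one])), fun hs => h.2 ?_⟩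
  rw [← Set.image_pair, ← MonoidHom.map_closure] at hs
  exact Group.isSolvable_of_isSolvable_injective
    (f := (equivMapOfInjective _ f hf).toMonoidHom) (MulEquiv.injective _)

theorem Good.symm {u w : G} (h : Good p u w) : Good p w u := by
  refine ⟨fun j e => h.1 j ?_, by rw [Set.pair_comm]; exact h.2⟩
  rw [show u * w = u * (w * u) * u⁻¹ by group, conj_pow, e]; group

theorem Good.swap {u w g : G} (h : Good p w (g * u * g⁻¹)) : Good p u (g⁻¹ * w * g⁻¹⁻¹) := by
  have := (h.map (MulAut.conj g⁻¹).toMonoidHom (MulEquiv.injective _)).symm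
  simpa [mul_assoc] using this

theorem good_of_inv {u w x y : G} (h1 : u ≠ 1) (hx : x ∈ closure ({u, w} : Set G))
    (hy : y ∈ closure ({u, w} : Set G)) (e1 : u = ⁅u⁻¹, x⁆) (e2 : w = ⁅w⁻¹, y⁆) :
    ¬ Group.IsSolvable (closure ({u, w} : Set G)) := by
  intro hs
  set H := closure ({u, w} : Set G)
  have hu : u ∈ H := subset_closure (by simp)
  have hw : w ∈ H := subset_closure (by simp)
  have : Nontrivial H := ⟨⟨⟨u, hu⟩, 1, fun e => h1 (congrArg Subtype.val e)⟩⟩
  have h2 := Group.IsSolvable.commutator_lt_top_of_nontrivial H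
  have h3 : H ≤ (_root_.commutator H).map H.subtype := by
    rw [commutator_def, map_commutator, ← MonoidHom.range_eq_map, range_subtype, closure_le]
    rintro z (rfl | rfl)
    · rw [SetLike.mem_coe, e1]; exact commutator_mem_commutator (inv_mem hu) hx
    · rw [SetLike.mem_coe, e2]; exact commutator_mem_commutator (inv_mem hw) hy
  refine h2.ne (eq_top_iff.2 fun z _ => ?_)
  obtain ⟨z', hz, e⟩ := h3 z.2
  rwa [← Subtype.ext e]

variable {α β : Type*}

theorem Good.transfer {e : β → α} (he : Function.Injective e) {u w : Perm α} {u0 w0 : Perm β}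
    (hu : ∀ i, u (e i) = e (u0 i)) (hw : ∀ i, w (e i) = e (w0 i)) (h : Good p u0 w0) : Good p u w := by
  let Γ : Subgroup (Perm α × Perm β) :=
    { carrier := {z | ∀ i, z.1 (e i) = e (z.2 i)}
      one_mem' := fun _ => rfl
      mul_mem' := fun {a b} ha hb i => by simp only [Prod.fst_mul, Prod.snd_mul, Perm.mul_apply, hb i, ha _]
      inv_mem' := fun {a} ha i => by
        apply a.1.injective
        rw [ha]; simp }
  let a : Γ := ⟨(u, u0), hu⟩
  let b : Γ := ⟨(w, w0), hw⟩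
  have h1 : Good p a b := Good.of_map ((MonoidHom.snd _ _).comp Γ.subtype) h
  refine h1.map ((MonoidHom.fst _ _).comp Γ.subtype) ((injective_iff_map_eq_one _).2 fun z hz => ?_)
  have hz' : z.1.1 = 1 := hz
  refine Subtype.ext (Prod.ext hz' (Equiv.ext fun i => he ?_))
  rw [← z.2 i, hz']; rfl

theorem red0 [Fintype α] [DecidableEq α] [Finite β] [DecidableEq β] {eu ew : β → α}
    (h1 : Function.Injective eu) (h2 : Function.Injective ew) {u w : Perm α} {u0 w0 : Perm β}
    (hu : ∀ i, u (eu i) = eu (u0 i)) (hw : ∀ i, w (ew i) = ew (w0 i)) {s t : β} (hst : s ≠ t)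
    (g1 : Good p u0 w0) (g2 : Good p u0 (Equiv.swap s t * w0 * Equiv.swap s t)) :
    ∃ g : Perm α, Perm.sign g = 1 ∧ Good p u (g * w * g⁻¹) := by
  obtain ⟨g, hg⟩ := Perm.exists_extending_pair ew eu h2 h1
  have hg' : ∀ i, g⁻¹ (eu i) = ew i := fun i => by rw [← hg i]; simp
  rcases Int.units_eq_one_or (Perm.sign g) with h | h
  · refine ⟨g, h, g1.transfer h1 hu fun i => ?_⟩
    rw [Perm.mul_apply, Perm.mul_apply, hg', hw, hg]
  · refine ⟨g * Equiv.swap (ew s) (ew t), by
      rw [Perm.sign_mul, h, Perm.sign_swap (fun e => hst (h2 e))]; rfl, g2.transfer h1 hu fun i => ?_⟩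
    simp only [mul_inv_rev, swap_inv, Perm.mul_apply, hg', h2.swap_apply, hw, hg]

theorem red [Fintype α] [DecidableEq α] [Finite β] [DecidableEq β] {eu : β → α}
    (h1 : Function.Injective eu) {u w : Perm α} {u0 : Perm β} (hu : ∀ i, u (eu i) = eu (u0 i))
    {X : Set α} (hX : X.ncard = Nat.card β) (hXw : ∀ x ∈ X, w x ∈ X) {ι : Type*} [Finite ι]
    {t : ι → α} {c : ι → β} (ht : Function.Injective t) (hc : Function.Injective c) (htX : ∀ i, t i ∈ X)
    {s s' : β} (hs : s ≠ s') (hcs : ∀ i, c i ≠ s ∧ c i ≠ s')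
    (hG : ∀ w0 : Perm β, (∀ i j, w (t i) = t j → w0 (c i) = c j) → (∀ n : ℕ, w ^ n = 1 → w0 ^ n = 1) →
      Good p u0 w0) : ∃ g : Perm α, Perm.sign g = 1 ∧ Good p u (g * w * g⁻¹) := by
  obtain ⟨e⟩ : Nonempty (β ≃ X) := Finite.card_eq.1 (by rw [← hX, Nat.card_coe_set_eq])
  obtain ⟨σ, hσ⟩ := Perm.exists_extending_pair c (fun i => e.symm ⟨t i, htX i⟩) hc
    fun i j h => ht (congrArg Subtype.val (e.symm.injective h))
  let E := σ.trans e
  have hE : ∀ i, (E (c i) : α) = t i := fun i => by simp [E, hσ]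
  have hinj : Function.Injective (fun x : X => (⟨w x, hXw x x.2⟩ : X)) := fun x y h =>
    Subtype.ext (w.injective (congrArg Subtype.val h))
  let wX : Perm X := Equiv.ofBijective _ (Finite.injective_iff_bijective.1 hinj)
  let w0 : Perm β := (E.trans wX).trans E.symm
  have hw : ∀ i, w (E i) = E (w0 i) := fun i => by simp [w0, wX]
  have hEi : Function.Injective (fun i => (E i : α)) := Subtype.val_injective.comp E.injective
  have k1 : ∀ i j, w (t i) = t j → w0 (c i) = c j := fun i j h =>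
    hEi (by simp only [← hw, hE, h])
  have k2 : ∀ n : ℕ, w ^ n = 1 → w0 ^ n = 1 := by
    intro n hn
    have : ∀ (n : ℕ) i, (w ^ n) (E i) = E ((w0 ^ n) i) := by
      intro n
      induction n with
      | zero => intro i; rfl
      | succ n ih => intro i; rw [pow_succ, pow_succ, Perm.mul_apply, Perm.mul_apply, hw, ih]
    exact Equiv.ext fun i => hEi (by simp only [← this, hn]; rfl)
  refine red0 h1 hEi hu hw hs (hG w0 k1 k2) (hG _ (fun i j h => ?_) fun n hn => ?_)
  · rw [Perm.mul_apply, Perm.mul_apply, swap_apply_of_ne_of_ne (hcs i).1 (hcs i).2, k1 i j h,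
      swap_apply_of_ne_of_ne (hcs j).1 (hcs j).2]
  · have := conj_pow (a := Equiv.swap s s') (b := w0) (i := n)
    rw [swap_inv] at this
    rw [this, k2 n hn, mul_one, swap_mul_self]

theorem exists_fixed {L : Type*} [Group L] [Finite L] [hp : Fact p.Prime] (hL : IsPGroup p L)
    (σ : MulAut L) {n : ℕ} (hσ : σ ^ p ^ n = 1)
    (K : Subgroup L) (hK : ∀ x ∈ K, σ x ∈ K) (h1 : K ≠ ⊥) : ∃ x ∈ K, x ≠ 1 ∧ σ x = x := by
  classical
  have := Fintype.ofFinite K
  have hinj : Function.Injective (fun x : K => (⟨σ x, hK x x.2⟩ : K)) := fun x y e =>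
    Subtype.ext (σ.injective (congrArg Subtype.val e))
  let τ : Equiv.Perm K := Equiv.ofBijective _ (Finite.injective_iff_bijective.1 hinj)
  have hτ : ∀ (n : ℕ) (x : K), ((τ ^ n) x : L) = (σ ^ n) x := by
    intro n
    induction n with
    | zero => intro x; rfl
    | succ n ih => intro x; rw [pow_succ, pow_succ, Equiv.Perm.mul_apply, ih]; rfl
  obtain ⟨k, hk⟩ := (IsPGroup.iff_card.1 (hL.to_subgroup K))
  have hk0 : k ≠ 0 := by
    rintro rfl
    exact h1 (card_eq_one.1 (by rw [hk, pow_zero]))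
  obtain ⟨b, hb, hb1⟩ := Equiv.Perm.exists_fixed_point_of_prime' (p := p) (n := n) (σ := τ) (a := 1)
    (by rw [← Nat.card_eq_fintype_card, hk]; exact dvd_pow_self p hk0)
    (by ext x; rw [hτ, hσ]; rfl) (Subtype.ext (map_one σ))
  exact ⟨b, b.2, fun e => hb1 (Subtype.ext e), congrArg Subtype.val hb⟩

theorem card_map_lt {A : Type*} [CommGroup A] [Finite A] [hp : Fact p.Prime] (hA : IsPGroup p A)
    (τ : MulAut A) {n : ℕ} (hτ : τ ^ p ^ n = 1) (K : Subgroup A) (hK : ∀ x ∈ K, τ x ∈ K) (h1 : K ≠ ⊥) :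
    p * Nat.card (K.map (τ.toMonoidHom / MonoidHom.id A)) ≤ Nat.card K := by
  obtain ⟨x, hx, hx1, hxf⟩ := exists_fixed hA τ hτ K hK h1
  set T := τ.toMonoidHom / MonoidHom.id A
  have e := (T.comp K.subtype).ker.card_mul_index
  rw [index_ker, MonoidHom.range_comp, range_subtype] at e
  obtain ⟨k, hk⟩ := (IsPGroup.iff_card.1 ((hA.to_subgroup K).to_subgroup (T.comp K.subtype).ker))
  have hk0 : k ≠ 0 := by
    rintro rfl
    rw [pow_zero, card_eq_one] at hk
    have : (⟨x, hx⟩ : K) ∈ (T.comp K.subtype).ker := by simp [T, hxf]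
    rw [hk, mem_bot] at this
    exact hx1 (congrArg Subtype.val this)
  rw [← e, hk]
  exact Nat.mul_le_mul_right _ (Nat.le_self_pow hk0 p)

section core
variable {H : Type*} [Group H] [Finite H] {N : ℕ} [MulAction H (ZMod N)] [FaithfulSMul H (ZMod N)]
  {u : H} (hu : ∀ i : ZMod N, u • i = i + 1)
include hu

omit [Finite H] [FaithfulSMul H (ZMod N)] in
theorem pow_smul_eq (n : ℕ) (i : ZMod N) : u ^ n • i = i + n := by
  induction n with
  | zero => simp
  | succ n ih => rw [pow_succ', mul_smul, ih, hu]; push_cast; ring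

omit [Finite H] in
theorem pow_N : u ^ N = 1 :=
  eq_of_smul_eq_smul (α := ZMod N) fun i => by rw [pow_smul_eq hu]; simp

omit [Finite H] [FaithfulSMul H (ZMod N)] in
theorem orb_shift [NeZero N] (A : Subgroup H) [hA : A.Normal] {a : H} (ha : a ∈ A) (i : ZMod N) :
    (∃ b ∈ A, b • (0 : ZMod N) = a • i - i) ∧ ∃ b ∈ A, b • i = a • (0 : ZMod N) + i := by
  have h0 : u ^ i.val • (0 : ZMod N) = i := by rw [pow_smul_eq hu]; simp
  refine ⟨⟨_, hA.conj_mem' a ha (u ^ i.val), ?_⟩, ⟨_, hA.conj_mem a ha (u ^ i.val), ?_⟩⟩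
  · rw [mul_smul, mul_smul, h0, inv_smul_eq_iff, pow_smul_eq hu]; simp
  · rw [mul_smul, mul_smul, inv_smul_eq_iff.2 h0.symm, pow_smul_eq hu]; simp

/-- blocks, or a regular normal elementary abelian subgroup -/
theorem dich [hp : Fact p.Prime] {k : ℕ} (hN : N = p ^ (k + 1)) [Group.IsSolvable H] :
    (0 < k ∧ ∀ (g : H) (x y : ZMod N), x - y = (p ^ k : ℕ) → ¬ IsUnit (g • x - g • y)) ∨
    ∃ (A : Subgroup H) (_ : A.Normal), IsMulCommutative A ∧ (∀ a ∈ A, a ^ p = 1) ∧ Nat.card A = N ∧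
      ∀ i : ZMod N, ∃ a ∈ A, a • (0 : ZMod N) = i := by
  have hN1 : 1 < N := hN ▸ Nat.one_lt_pow (by omega) hp.out.one_lt
  have : NeZero N := ⟨by omega⟩
  have : Fact (1 < N) := ⟨hN1⟩
  have hu1 : u ≠ 1 := fun e => by simpa [e] using hu 0
  obtain ⟨A, ⟨hA, hA1⟩, hmin⟩ := (wellFounded_lt (α := Subgroup H)).has_min
    {A | A.Normal ∧ A ≠ ⊥} ⟨⊤, inferInstance, fun e => hu1 (mem_bot.1 (e ▸ mem_top u))⟩
  obtain ⟨hc, r, hr, hrA⟩ := Cfsg.Agent.S0043.result A hA1 fun M hM hMA => by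
    by_contra h
    push Not at h
    exact hmin M ⟨hM, h.1⟩ (lt_of_le_of_ne hMA h.2)
  let S : AddSubmonoid (ZMod N) :=
    { carrier := {i | ∃ a ∈ A, a • (0 : ZMod N) = i}
      zero_mem' := ⟨1, one_mem _, one_smul _ _⟩
      add_mem' := by
        rintro _ _ ⟨a, ha, rfl⟩ ⟨b, hb, rfl⟩
        obtain ⟨c, hc, e⟩ := (orb_shift hu A ha (b • (0 : ZMod N))).2
        exact ⟨c * b, mul_mem hc hb, by rw [mul_smul, e]⟩ }
  have hS : ∀ s ∈ S, ∀ t : ZMod N, t * s ∈ S := fun s hs t => by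
    rw [← ZMod.natCast_zmod_val t, ← nsmul_eq_mul]; exact nsmul_mem hs _
  have hpk : ((p ^ k : ℕ) : ZMod N) ∈ S := by
    obtain ⟨a, ha, ha1⟩ := (A.bot_or_exists_ne_one).resolve_left hA1
    obtain ⟨i, hi⟩ : ∃ i : ZMod N, a • i ≠ i := by
      by_contra h
      push Not at h
      exact ha1 (eq_of_smul_eq_smul (α := ZMod N) fun i => by rw [h, one_smul])
    have hs : a • i - i ∈ S := (orb_shift hu A ha i).1
    obtain ⟨s, hs', hs0⟩ : ∃ s ∈ S, s ≠ 0 := ⟨_, hs, sub_ne_zero.2 hi⟩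
    have hv0 : s.val ≠ 0 := (ZMod.val_eq_zero s).not.2 hs0
    obtain ⟨j, m, hm, e⟩ := Nat.exists_eq_pow_mul_and_not_dvd hv0 p hp.out.ne_one
    have hj : j ≤ k := by
      have h3 : p ^ j < p ^ (k + 1) := lt_of_le_of_lt (Nat.le_of_dvd (Nat.pos_of_ne_zero hv0) ⟨m, e⟩)
        (hN ▸ ZMod.val_lt s)
      have := (Nat.pow_lt_pow_iff_right hp.out.one_lt).1 h3
      omega
    obtain ⟨v, hv⟩ : IsUnit (m : ZMod N) := (ZMod.isUnit_iff_coprime m N).2
      (hN ▸ ((hp.out.coprime_iff_not_dvd.2 hm).symm.pow_right _))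
    have := hS s hs' ((p ^ (k - j) : ℕ) * (v⁻¹ : (ZMod N)ˣ))
    rwa [← ZMod.natCast_zmod_val s, e, Nat.cast_mul, ← hv, mul_mul_mul_comm, Units.inv_mul, mul_one,
      ← Nat.cast_mul, ← pow_add, Nat.sub_add_cancel hj] at this
  by_cases h1 : (1 : ZMod N) ∈ S
  · right
    have ht : ∀ i : ZMod N, ∃ a ∈ A, a • (0 : ZMod N) = i := fun i => by
      have := hS 1 h1 i
      rwa [mul_one] at this
    have hcard : Nat.card A = N := by
      have : Function.Bijective (fun a : A => (a : H) • (0 : ZMod N)) := by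
        refine ⟨fun a b e => Subtype.ext (eq_of_smul_eq_smul (α := ZMod N) fun i => ?_),
          fun i => let ⟨a, ha, e⟩ := ht i; ⟨⟨a, ha⟩, e⟩⟩
        obtain ⟨c, hc', rfl⟩ := ht i
        simp only at e
        rw [← mul_smul, ← mul_smul, setLike_mul_comm a.2 hc', setLike_mul_comm b.2 hc', mul_smul, mul_smul, e]
      rw [Nat.card_eq_of_bijective _ this, Nat.card_zmod]
    refine ⟨A, hA, hc, ?_, hcard, ht⟩
    obtain ⟨a, ha, ha1⟩ := (A.bot_or_exists_ne_one).resolve_left hA1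
    have : Fact r.Prime := ⟨hr⟩
    have h2 : r ∣ p ^ (k + 1) := by
      rw [← hN, ← hcard, ← orderOf_eq_prime (hrA a ha) ha1]; exact A.orderOf_dvd_natCard ha
    rwa [(Nat.prime_dvd_prime_iff_eq hr hp.out).1 (hr.dvd_of_dvd_pow h2)] at hrA
  · left
    refine ⟨Nat.pos_of_ne_zero (by rintro rfl; exact h1 (by simpa using hpk)), fun g x y hxy ⟨v, hv⟩ => h1 ?_⟩
    obtain ⟨a, ha, e⟩ := hxy ▸ hpk
    obtain ⟨b, hb, e2⟩ := (orb_shift hu A ha y).2
    rw [e, sub_add_cancel] at e2
    have h3 : (g * b * g⁻¹) • g • y - g • y ∈ S := (orb_shift hu A (hA.conj_mem b hb g) (g • y)).1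
    rw [mul_smul, inv_smul_smul, mul_smul, e2, ← hv] at h3
    simpa using hS _ h3 (v⁻¹ : (ZMod N)ˣ)

theorem not_regular [hp : Fact p.Prime] (h2 : p ≠ 2) {k : ℕ} (hN : N = p ^ (k + 2)) (A : Subgroup H) [A.Normal]
    [IsMulCommutative A] (he : ∀ a ∈ A, a ^ p = 1) (hc : Nat.card A = N)
    (ht : ∀ i : ZMod N, ∃ a ∈ A, a • (0 : ZMod N) = i) : False := by
  open scoped IsMulCommutative in
  have hA : IsPGroup p A := IsPGroup.of_card (hc.trans hN)
  let τ : MulAut A := MulAut.conjNormal u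
  have hτ : τ ^ p ^ (k + 2) = 1 := by rw [← map_pow, ← hN, pow_N hu, map_one]
  have hτu : ∀ (n : ℕ) (a : A), (((τ ^ n) a : A) : H) = u ^ n * a * (u ^ n)⁻¹ := fun n a => by
    rw [← map_pow]; rfl
  let T := τ.toMonoidHom / MonoidHom.id A
  have hT : ∀ a, τ a = a * T a := fun a => by simp [T]
  have hTτ : ∀ a, τ (T a) = T (τ a) := fun a => by simp [T]
  let B1 := (⊤ : Subgroup A).map T
  let B := B1.map T
  have i1 : ∀ x ∈ B1, τ x ∈ B1 := by rintro _ ⟨x, -, rfl⟩; exact ⟨τ x, trivial, (hTτ x).symm⟩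
  have i2 : ∀ x ∈ B, τ x ∈ B := by rintro _ ⟨x, hx, rfl⟩; exact ⟨τ x, i1 x hx, (hTτ x).symm⟩
  have i3 : ∀ (n : ℕ), ∀ x ∈ B, (τ ^ n) x ∈ B := by
    intro n
    induction n with
    | zero => exact fun x hx => hx
    | succ n ih => exact fun x hx => by rw [pow_succ, MulAut.mul_apply]; exact ih _ (i2 x hx)
  have hp1 := hp.out.one_lt
  have hB : Nat.card B < p ^ (k + 1) := by
    have c1 := card_map_lt hA τ hτ ⊤ (fun _ _ => trivial) (by
      intro e
      have := card_eq_one.2 e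
      rw [card_top, hc, hN] at this
      exact (Nat.one_lt_pow (by omega) hp1).ne' this)
    rw [card_top, hc, hN, pow_succ'] at c1
    replace c1 : Nat.card B1 ≤ p ^ (k + 1) := Nat.le_of_mul_le_mul_left c1 hp.out.pos
    by_cases e : B1 = ⊥
    · rw [show B = ⊥ by simp only [B, e, Subgroup.map_bot], card_bot]; exact Nat.one_lt_pow (by omega) hp1
    · have c2 : p * Nat.card B ≤ Nat.card B1 := card_map_lt hA τ hτ B1 i1 e
      have : 0 < Nat.card B := Nat.card_pos
      nlinarith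
  obtain ⟨v, hv, e⟩ := ht 1
  obtain ⟨v, rfl⟩ : ∃ v' : A, (v' : H) = v := ⟨⟨v, hv⟩, rfl⟩
  have key : ∀ n : ℕ, ∃ b ∈ B, ((v ^ n * T v ^ n.choose 2 * b : A) : H) • (0 : ZMod N) = n := by
    intro n
    induction n with
    | zero => exact ⟨1, one_mem _, by simp⟩
    | succ n ih =>
      obtain ⟨b, hb, e2⟩ := ih
      refine ⟨T (T v) ^ n.choose 2 * τ b, mul_mem (pow_mem (mem_map_of_mem T (mem_map_of_mem T (mem_top v))) _) (i2 b hb), ?_⟩
      have : v ^ (n + 1) * T v ^ (n + 1).choose 2 * (T (T v) ^ n.choose 2 * τ b) =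
          (τ ^ 1) (v ^ n * T v ^ n.choose 2 * b) * v := by
        rw [pow_one, map_mul, map_mul, map_pow, map_pow, hT v, hT (T v), Nat.choose_succ_succ' n 1,
          Nat.choose_one_right, mul_pow, mul_pow, pow_add, pow_add, pow_one]
        ac_rfl
      rw [this, coe_mul, mul_smul, e, hτu, pow_one, mul_smul, mul_smul,
        inv_smul_eq_iff.2 (show (1 : ZMod N) = u • 0 by rw [hu, zero_add]), e2, hu]
      push_cast; rfl
  obtain ⟨b, hb, e2⟩ := key p
  have he' : ∀ a : A, a ^ p = 1 := fun a => Subtype.ext (he a a.2)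
  obtain ⟨c, hc2⟩ : p ∣ p.choose 2 := hp.out.dvd_choose_self (by norm_num) (by omega)
  rw [hc2, pow_mul, he', he', one_pow, one_mul, one_mul] at e2
  have key2 : ∀ j : ℕ, ∃ b' : B, ((b' : A) : H) • (0 : ZMod N) = (p * j : ℕ) := by
    intro j
    induction j with
    | zero => exact ⟨1, by simp⟩
    | succ j ih =>
      obtain ⟨b', e3⟩ := ih
      refine ⟨⟨(τ ^ (p * j)) b, i3 _ b hb⟩ * b', ?_⟩
      rw [coe_mul, coe_mul, mul_smul, e3, hτu, mul_smul, mul_smul, inv_smul_eq_iff.2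
        (show ((p * j : ℕ) : ZMod N) = u ^ (p * j) • 0 by rw [pow_smul_eq hu, zero_add]), e2, pow_smul_eq hu]
      push_cast; ring
  choose f hf using key2
  have := Nat.card_le_card_of_injective (fun j : Fin (p ^ (k + 1)) => f j) fun i j h => by
    have h3 := hf i
    simp only at h
    rw [h, hf, ZMod.natCast_eq_natCast_iff', hN, pow_succ' p (k + 1), Nat.mul_mod_mul_left, Nat.mul_mod_mul_left,
      Nat.mod_eq_of_lt i.2, Nat.mod_eq_of_lt j.2] at h3
    exact Fin.ext (Nat.eq_of_mul_eq_mul_left hp.out.pos h3).symm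
  rw [Nat.card_fin] at this
  omega

omit [FaithfulSMul H (ZMod N)] hu in
theorem central [hp : Fact p.Prime] (A : Subgroup H) [A.Normal] (hc : Nat.card A = p) {g : H} {n : ℕ}
    (hg : g ^ p ^ n = 1) : ∀ a ∈ A, g * a = a * g := by
  have hA : IsPGroup p A := IsPGroup.of_card (hc.trans (pow_one p).symm)
  have : Nontrivial A := Finite.one_lt_card_iff_nontrivial.1 (hc ▸ hp.out.one_lt)
  obtain ⟨x, -, hx1, hx⟩ := exists_fixed hA (MulAut.conjNormal g) (n := n) (by rw [← map_pow, hg, map_one])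
    ⊤ (fun _ _ => trivial) top_ne_bot
  intro a ha
  obtain ⟨i, hi⟩ : (⟨a, ha⟩ : A) ∈ zpowers x := by
    rw [zpowers_eq_top_of_prime_card hc hx1]; trivial
  have h1 : MulAut.conjNormal g (⟨a, ha⟩ : A) = ⟨a, ha⟩ := by rw [← hi, map_zpow, hx]
  have h2 : g * a * g⁻¹ = a := congrArg Subtype.val h1
  rwa [mul_inv_eq_iff_eq_mul] at h2

end core

theorem good_big [hp : Fact p.Prime] (h2 : p ≠ 2) {k N : ℕ} (hN : N = p ^ (k + 2)) {w : Perm (ZMod N)}
    {x y x' y' : ZMod N} (hxy : x ≠ y) (h1 : w x + 1 = y) (h3 : w y + 1 = x)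
    (h4 : x' - y' = (p ^ (k + 1) : ℕ)) (h5 : IsUnit (w x' - w y')) : Good p (Equiv.addRight 1) w := by
  have : NeZero N := ⟨hN ▸ pow_ne_zero _ hp.out.ne_zero⟩
  constructor
  · intro j e
    have key : ∀ n : ℕ, ((Equiv.addRight 1 * w) ^ (2 * n + 1) : Perm (ZMod N)) x = y := by
      intro n
      induction n with
      | zero => simpa using h1
      | succ n ih =>
        rw [show 2 * (n + 1) + 1 = 2 * n + 1 + 1 + 1 by ring, pow_succ', pow_succ', Perm.mul_apply,
          Perm.mul_apply, Perm.mul_apply, ih]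
        simp [h1, h3]
    obtain ⟨n, hn⟩ := (hp.out.odd_of_ne_two h2).pow (n := j)
    have := key n
    rw [← hn, e] at this
    exact hxy this
  · intro hs
    have hu : ∀ i : ZMod N, (⟨Equiv.addRight 1, subset_closure (by simp)⟩ :
      closure ({Equiv.addRight 1, w} : Set (Perm (ZMod N)))) • i = i + 1 := fun i => rfl
    rcases dich hu (k := k + 1) hN with h | ⟨A, _, _, he, hc, ht⟩
    · exact h.2 ⟨w, subset_closure (by simp)⟩ x' y' h4 h5
    · exact not_regular hu h2 hN A he hc ht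

theorem good_prime [hp : Fact p.Prime] {w : Perm (ZMod p)} {n : ℕ} (hw : w ^ p ^ n = 1)
    {x y : ZMod p} (h1 : w x + 1 = x) (h3 : w y + 1 ≠ y) : Good p (Equiv.addRight 1) w := by
  constructor
  · intro j e
    have h := Perm.card_compl_support_modEq e
    rw [ZMod.card, Nat.ModEq, Nat.mod_self, ← Nat.dvd_iff_mod_eq_zero] at h
    have h4 := Nat.le_of_dvd (Finset.card_pos.2 ⟨x, by simpa using h1⟩) h
    have h5 := Finset.card_lt_card (s := (Equiv.addRight 1 * w).supportᶜ) (t := Finset.univ)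
      (Finset.ssubset_univ_iff.2 fun e2 => by
        have : y ∈ (Equiv.addRight 1 * w).supportᶜ := e2 ▸ Finset.mem_univ y
        exact h3 (by simpa using this))
    rw [Finset.card_univ, ZMod.card] at h5
    omega
  · intro hs
    let u' : closure ({Equiv.addRight 1, w} : Set (Perm (ZMod p))) := ⟨Equiv.addRight 1, subset_closure (by simp)⟩
    let w' : closure ({Equiv.addRight 1, w} : Set (Perm (ZMod p))) := ⟨w, subset_closure (by simp)⟩
    have hu : ∀ i : ZMod p, u' • i = i + 1 := fun i => rfl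
    rcases dich hu (p := p) (k := 0) (by simp) with h | ⟨A, _, _, he, hc, ht⟩
    · exact lt_irrefl _ h.1
    · obtain ⟨a, ha, e⟩ := ht (y - x)
      obtain ⟨b, hb, e2⟩ := (orb_shift hu A ha x).2
      rw [e, sub_add_cancel] at e2
      have c1 := central A hc (g := u') (n := 1) (by rw [pow_one]; exact pow_N hu) b hb
      have c2 := central A hc (g := w') (n := n) (Subtype.ext hw) b hb
      have h6 : u' • w' • x = x := h1
      refine h3 (show u' • w' • y = y from ?_)
      rw [← e2, ← mul_smul w', c2, mul_smul, ← mul_smul u', c1, mul_smul, h6]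

end CF.AltPe
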