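import Cfsg.Agent.AltD.Pe1

/-! Pairs of `p`-elements of symmetric groups generating non-solvable groups, II. -/

set_option autoImplicit false

namespace CF.AltPe

open Subgroup Equiv MulAction
open scoped commutatorElement

variable {p : ℕ} {α : Type*} [Fintype α] [DecidableEq α]

omit [Fintype α] [DecidableEq α] in
theorem ncard_orb (w : Perm α) (x : α) : (orbit (zpowers w) x).ncard = period w x := by
  have := Nat.card_congr (orbitZPowersEquiv w x)
  rw [Nat.card_zmod, Nat.card_coe_set_eq] at this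
  exact this

omit [Fintype α] [DecidableEq α] in
theorem period_pow [hp : Fact p.Prime] {w : Perm α} {n : ℕ} (hw : w ^ p ^ n = 1) (x : α) :
    ∃ j, period w x = p ^ j :=
  let ⟨j, _, h⟩ := (Nat.dvd_prime_pow hp.out).1 ((period_dvd_orderOf w x).trans (orderOf_dvd_of_pow_eq_one hw))
  ⟨j, h⟩

theorem dvd_of_le [hp : Fact p.Prime] {a b i j : ℕ} (ha : a = p ^ i) (hb : b = p ^ j) (h : a ≤ b) : a ∣ b := by
  subst ha hb
  exact pow_dvd_pow p ((Nat.pow_le_pow_iff_right hp.out.one_lt).1 h)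

theorem exists_inv_set [hp : Fact p.Prime] {w : Perm α} {n k : ℕ} (hw : w ^ p ^ n = 1) (x0 : α)
    (h0 : ∀ x : α, period w x ≤ period w x0) (h1 : period w x0 ≤ p ^ k) (h2 : p ^ k ≤ Fintype.card α) :
    ∃ X : Set α, X.ncard = p ^ k ∧ x0 ∈ X ∧ ∀ x ∈ X, w x ∈ X := by
  have hinv : ∀ y : α, ∀ g : zpowers w, ∀ x ∈ orbit (zpowers w) y, g • x ∈ orbit (zpowers w) y :=
    fun y g x hx => mem_orbit_of_mem_orbit g hx
  obtain ⟨X, ⟨a1, a2, a3, a4⟩, hmax⟩ := Set.exists_max_image
    {X : Set α | x0 ∈ X ∧ (∀ g : zpowers w, ∀ x ∈ X, g • x ∈ X) ∧ (∀ y ∉ X, period w y ∣ X.ncard) ∧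
      X.ncard ≤ p ^ k} Set.ncard (Set.toFinite _)
    ⟨orbit (zpowers w) x0, mem_orbit_self _, hinv x0, fun y _ => by
      obtain ⟨i, hi⟩ := period_pow hw y
      obtain ⟨j, hj⟩ := period_pow hw x0
      rw [ncard_orb]; exact dvd_of_le hi hj (h0 y), by rw [ncard_orb]; exact h1⟩
  refine ⟨X, ?_, a1, fun x hx => a2 ⟨w, mem_zpowers w⟩ x hx⟩
  by_contra hne
  have hlt : X.ncard < p ^ k := lt_of_le_of_ne a4 hne
  obtain ⟨y, hy, hymax⟩ := Set.exists_max_image Xᶜ (period w) (Set.toFinite _) (by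
    rw [Set.nonempty_compl]
    rintro rfl
    rw [Set.ncard_univ, Nat.card_eq_fintype_card] at hlt
    omega)
  have hd : Disjoint X (orbit (zpowers w) y) := by
    rw [Set.disjoint_right]
    rintro _ ⟨g, rfl⟩ hx
    exact hy (by simpa using a2 g⁻¹ _ hx)
  have hc : (X ∪ orbit (zpowers w) y).ncard = X.ncard + period w y := by
    rw [Set.ncard_union_eq hd, ncard_orb]
  obtain ⟨j, hj⟩ := period_pow hw y
  have hpos : 0 < period w y := hj ▸ pow_pos hp.out.pos j
  have := hmax (X ∪ orbit (zpowers w) y) ⟨Or.inl a1, fun g x hx => hx.imp (a2 g x) (hinv y g x),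
    fun z hz => by
      obtain ⟨i, hi⟩ := period_pow hw z
      have hz' : z ∉ X := fun h => hz (Or.inl h)
      rw [hc]; exact dvd_add (a3 z hz') (dvd_of_le hi hj (hymax z hz')), by
      rw [hc]
      obtain ⟨a, ha⟩ := a3 y hy
      obtain ⟨b, hb⟩ := dvd_of_le hj rfl ((h0 y).trans h1)
      rw [ha, hb] at hlt ⊢
      have := Nat.lt_of_mul_lt_mul_left hlt
      nlinarith⟩
  omega

omit [DecidableEq α] in
theorem exists_emb (u : Perm α) (a : α) {N : ℕ} (hN : period u a = N) :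
    ∃ e : ZMod N → α, Function.Injective e ∧ ∀ i, u (e i) = e (Equiv.addRight 1 i) := by
  subst hN
  refine ⟨fun i => ((orbitZPowersEquiv u a).symm i : α),
    Subtype.val_injective.comp (Equiv.injective _), fun i => ?_⟩
  obtain ⟨i, rfl⟩ := ZMod.intCast_surjective i
  have h1 := orbitZPowersEquiv_symm_apply' u a i
  have h2 := orbitZPowersEquiv_symm_apply' u a (1 + i)
  rw [Int.cast_add, Int.cast_one, add_comm] at h2
  refine Eq.trans (congrArg (fun z : orbit (zpowers u) a => u (z : α)) h1) (Eq.trans ?_ (congrArg Subtype.val h2).symm)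
  simp [zpow_add, mul_smul]

theorem cast_inj {N a b : ℕ} (ha : a < N) (hb : b < N) (h : (a : ZMod N) = b) : a = b := by
  rwa [ZMod.natCast_eq_natCast_iff', Nat.mod_eq_of_lt ha, Nat.mod_eq_of_lt hb] at h

theorem red' {N : ℕ} {u w : Perm α} {a : α} (hN : period u a = N)
    {X : Set α} (hX : X.ncard = N) (hXw : ∀ x ∈ X, w x ∈ X) {ι : Type*} [Finite ι]
    {t : ι → α} {c : ι → ℕ} (ht : Function.Injective t) (hc : Function.Injective c) (htX : ∀ i, t i ∈ X)
    {s s' : ℕ} (hs : s ≠ s') (h1 : s < N) (h2 : s' < N) (hcs : ∀ i, c i ≠ s ∧ c i ≠ s' ∧ c i < N)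
    (hG : ∀ w0 : Perm (ZMod N), (∀ i j, w (t i) = t j → w0 (c i) = c j) → (∀ n : ℕ, w ^ n = 1 → w0 ^ n = 1) →
      Good p (Equiv.addRight 1) w0) : ∃ g : Perm α, Perm.sign g = 1 ∧ Good p u (g * w * g⁻¹) := by
  have : NeZero N := ⟨by omega⟩
  obtain ⟨e, he, hu⟩ := exists_emb u a hN
  exact red he hu (by rw [hX, Nat.card_zmod]) hXw ht (c := fun i => (c i : ZMod N))
    (fun i j h => hc (cast_inj (hcs i).2.2 (hcs j).2.2 h)) htX (fun h => hs (cast_inj h1 h2 h))
    (fun i => ⟨fun h => (hcs i).1 (cast_inj (hcs i).2.2 h1 h), fun h => (hcs i).2.1 (cast_inj (hcs i).2.2 h2 h)⟩)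
    hG

omit [Fintype α] [DecidableEq α] in
theorem three_ne [hp : Fact p.Prime] (h2 : p ≠ 2) {w : Perm α} {n : ℕ} (hw : w ^ p ^ n = 1) {x : α}
    (hx : w x ≠ x) : w (w x) ≠ x := by
  intro e
  obtain ⟨m, hm⟩ := (hp.out.odd_of_ne_two h2).pow (n := n)
  have key : ∀ m : ℕ, (w ^ (2 * m + 1)) x = w x := by
    intro m
    induction m with
    | zero => simp
    | succ m ih =>
      rw [show 2 * (m + 1) + 1 = 2 * m + 1 + 1 + 1 by ring, pow_succ, pow_succ, Perm.mul_apply,
        Perm.mul_apply, e, ih]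
  have := key m
  rw [← hm, hw] at this
  exact hx this.symm

theorem main_prime [hp : Fact p.Prime] (h5 : 5 ≤ p) {u w : Perm α} {a : α} (hN : period u a = p) {n : ℕ}
    (hw : w ^ p ^ n = 1) {X : Set α} (hX : X.ncard = p) (hXw : ∀ x ∈ X, w x ∈ X) {x : α} (hx : x ∈ X)
    (h1 : w x ≠ x) : ∃ g : Perm α, Perm.sign g = 1 ∧ Good p u (g * w * g⁻¹) := by
  have h2 := three_ne (by omega) hw h1
  have h3 : w (w x) ≠ w x := w.injective.ne h1
  refine red' hN hX hXw (t := ![x, w x, w (w x)]) (c := ![2, 1, 3]) ?_ (by decide) ?_ (s := 0) (s' := 4)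
    (by norm_num) (by omega) (by omega) ?_ fun w0 k1 k2 => ?_
  · intro i j; fin_cases i <;> fin_cases j <;> simp [h1, h2, h3, h1.symm, h2.symm, h3.symm]
  · intro i; fin_cases i <;> simp [hx, hXw]
  · intro i; fin_cases i <;> simp <;> omega
  · have e1 := k1 0 1 rfl
    have e2 := k1 1 2 rfl
    simp only [Matrix.cons_val] at e1 e2
    refine good_prime (k2 _ hw) (x := (2 : ℕ)) (y := (1 : ℕ)) (by rw [e1]; norm_num) ?_
    rw [e2]
    intro e
    have := cast_inj (N := p) (a := 4) (b := 1) (by omega) (by omega) (by rw [← e]; norm_num)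
    omega

theorem main_big [hp : Fact p.Prime] (hp2 : p ≠ 2) {k : ℕ} {u w : Perm α} {a : α} (hN : period u a = p ^ (k + 2))
    {n : ℕ} (hw : w ^ p ^ n = 1) {X : Set α} (hX : X.ncard = p ^ (k + 2)) (hXw : ∀ x ∈ X, w x ∈ X) {x : α}
    (hx : x ∈ X) (h1 : w x ≠ x) : ∃ g : Perm α, Perm.sign g = 1 ∧ Good p u (g * w * g⁻¹) := by
  have h2 := three_ne hp2 hw h1
  have h3 : w (w x) ≠ w x := w.injective.ne h1
  have hp3 : 3 ≤ p := by have := hp.out.two_le; omega
  obtain ⟨M, hM⟩ : ∃ M, M = p ^ (k + 1) := ⟨_, rfl⟩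
  have hM3 : 3 ≤ M := hM ▸ hp3.trans (Nat.le_self_pow (by omega) p)
  have hMN : 3 * M ≤ p ^ (k + 2) := by rw [pow_succ', ← hM]; exact Nat.mul_le_mul_right _ hp3
  have c1 : ((M - 1 : ℕ) : ZMod (p ^ (k + 2))) + 1 = M := by
    rw [Nat.cast_sub (by omega)]; simp
  have n1 : ((M : ℕ) : ZMod (p ^ (k + 2))) ≠ (1 : ℕ) := fun e => by
    have := cast_inj (by omega) (by omega) e
    omega
  by_cases h4 : w (w (w x)) = x
  · obtain ⟨y, hy, hy'⟩ : ∃ y ∈ X, y ∉ ({x, w x, w (w x)} : Set α) := by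
      by_contra h
      push Not at h
      have := (Set.ncard_le_ncard h).trans ((Set.ncard_insert_le _ _).trans
        (Nat.succ_le_succ (Set.ncard_insert_le _ _)))
      rw [Set.ncard_singleton] at this
      omega
    simp only [Set.mem_insert_iff, Set.mem_singleton_iff, not_or] at hy'
    obtain ⟨y1, y2, y3⟩ := hy'
    by_cases h5 : w y = y
    · refine red' hN hX hXw (t := ![x, w x, w (w x), y]) (c := ![2, 0, M + 1, 1]) ?_ ?_ ?_ (s := 2 * M)
        (s' := 2 * M + 1) (by omega) (by omega) (by omega) ?_ fun w0 k1 k2 => ?_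
      · intro i j; fin_cases i <;> fin_cases j <;>
          simp [h1, h2, h3, h1.symm, h2.symm, h3.symm, y1, y2, y3, Ne.symm y1, Ne.symm y2, Ne.symm y3]
      · intro i j; fin_cases i <;> fin_cases j <;> simp <;> omega
      · intro i; fin_cases i <;> simp [hx, hXw, hy]
      · intro i; fin_cases i <;> simp <;> omega
      · have e1 := k1 0 1 rfl
        have e2 := k1 2 0 h4
        have e3 := k1 3 3 h5
        simp only [Matrix.cons_val] at e1 e2 e3
        refine good_big hp2 rfl (x := (2 : ℕ)) (y := (1 : ℕ)) (x' := (M + 1 : ℕ)) (y' := (1 : ℕ)) (fun e => ?_)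
          (by rw [e1]; simp) (by rw [e3]; norm_num) (by rw [← hM]; simp) (by rw [e2, e3]; norm_num)
        have := cast_inj (by omega) (by omega) e
        omega
    · have z1 : w y ≠ x := fun e => y3 (w.injective (e.trans h4.symm))
      have z2 : w y ≠ w x := w.injective.ne y1
      have z3 : w y ≠ w (w x) := w.injective.ne y2
      refine red' hN hX hXw (t := ![x, w x, w (w x), y, w y]) (c := ![M, 0, M + 1, 1, M - 1]) ?_ ?_ ?_
        (s := 2 * M) (s' := 2 * M + 1) (by omega) (by omega) (by omega) ?_ fun w0 k1 k2 => ?_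
      · intro i j; fin_cases i <;> fin_cases j <;>
          simp [h1, h2, h3, h1.symm, h2.symm, h3.symm, y1, y2, y3, Ne.symm y1, Ne.symm y2, Ne.symm y3,
            z1, z2, z3, z1.symm, z2.symm, z3.symm, h5, Ne.symm h5]
      · intro i j; fin_cases i <;> fin_cases j <;> simp <;> omega
      · intro i; fin_cases i <;> simp [hx, hXw, hy]
      · intro i; fin_cases i <;> simp <;> omega
      · have e1 := k1 0 1 rfl
        have e2 := k1 1 2 rfl
        have e3 := k1 3 4 rfl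
        simp only [Matrix.cons_val] at e1 e2 e3
        refine good_big hp2 rfl (x := (M : ℕ)) (y := (1 : ℕ)) (x' := (M : ℕ)) (y' := (0 : ℕ)) n1
          (by rw [e1]; simp) (by rw [e3, c1]) (by rw [← hM]; simp) ?_
        rw [e1, e2, Nat.cast_zero, zero_sub, IsUnit.neg_iff, ZMod.isUnit_iff_coprime, hM]
        refine Nat.Coprime.pow_right _ ?_
        rw [pow_succ, add_comm, Nat.coprime_add_mul_right_left]; simp
  · have z2 : w (w (w x)) ≠ w x := w.injective.ne h2
    have z3 : w (w (w x)) ≠ w (w x) := w.injective.ne h3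
    refine red' hN hX hXw (t := ![x, w x, w (w x), w (w (w x))]) (c := ![M, 0, 1, M - 1]) ?_ ?_ ?_
      (s := 2 * M) (s' := 2 * M + 1) (by omega) (by omega) (by omega) ?_ fun w0 k1 k2 => ?_
    · intro i j; fin_cases i <;> fin_cases j <;>
        simp [h1, h2, h3, h1.symm, h2.symm, h3.symm, z2, z3, z2.symm, z3.symm, h4, Ne.symm h4]
    · intro i j; fin_cases i <;> fin_cases j <;> simp <;> omega
    · have := hXw _ (hXw _ (hXw _ hx))
      intro i; fin_cases i <;> simp [hx, hXw, this]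
    · intro i; fin_cases i <;> simp <;> omega
    · have e1 := k1 0 1 rfl
      have e2 := k1 1 2 rfl
      have e3 := k1 2 3 rfl
      simp only [Matrix.cons_val] at e1 e2 e3
      exact good_big hp2 rfl (x := (M : ℕ)) (y := (1 : ℕ)) (x' := (M : ℕ)) (y' := (0 : ℕ)) n1
        (by rw [e1]; simp) (by rw [e3, c1]) (by rw [← hM]; simp) (by rw [e1, e2]; simp)

theorem good5 {G : Type*} [Group G] {u w : G} (h1 : u ≠ 1) (h2 : u * w ≠ 1) (h3 : (u * w) ^ 5 = 1)
    (h : (u = ⁅u⁻¹, w * u * w⁻¹ * u⁻¹ * w⁆ ∧ w = ⁅w⁻¹, u * w * u⁻¹ * w⁻¹ * u⁆) ∨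
      (u = ⁅u⁻¹, w * u * w * u⁻¹ * w * u * w⁻¹⁆ ∧ w = ⁅w⁻¹, u * w * u * w⁻¹ * u * w * u⁻¹⁆)) : Good 3 u w := by
  have hu : u ∈ closure ({u, w} : Set G) := subset_closure (by simp)
  have hw : w ∈ closure ({u, w} : Set G) := subset_closure (by simp)
  constructor
  · intro j e
    have := pow_gcd_eq_one.2 ⟨h3, e⟩
    rw [Nat.Coprime.gcd_eq_one (Nat.Coprime.pow_right j (by norm_num)), pow_one] at this
    exact h2 this
  · rcases h with h | h <;>
    exact good_of_inv h1 (by repeat (first | assumption | apply mul_mem | apply inv_mem))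
      (by repeat (first | assumption | apply mul_mem | apply inv_mem)) h.1 h.2

/-- a three-cycle -/
def cB (n : ℕ) : Perm (Fin (n + 3)) := Equiv.swap 0 1 * Equiv.swap 1 2
/-- a double three-cycle -/
def cA : Perm (Fin 6) := Equiv.swap 0 1 * Equiv.swap 1 2 * (Equiv.swap 3 4 * Equiv.swap 4 5)

theorem red3 {n : ℕ} {eu ew : Fin n → α} (h1 : Function.Injective eu) (h2 : Function.Injective ew)
    {u w : Perm α} {u0 w0 : Perm (Fin n)} (hu : ∀ i, u (eu i) = eu (u0 i)) (hw : ∀ i, w (ew i) = ew (w0 i))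
    (π : Perm (Fin n)) {s t : Fin n} (hst : s ≠ t) (g1 : Good p u0 (π * w0 * π⁻¹))
    (g2 : Good p u0 (Equiv.swap s t * (π * w0 * π⁻¹) * Equiv.swap s t)) :
    ∃ g : Perm α, Perm.sign g = 1 ∧ Good p u (g * w * g⁻¹) :=
  red0 (ew := ew ∘ (π⁻¹ : Perm (Fin n))) h1 (h2.comp (Equiv.injective _)) hu (fun i => by simp [hw]) hst g1 g2

theorem types {v : Perm α} (h3 : v ^ 3 = 1) (h1 : v ≠ 1) (h5 : 5 ≤ Fintype.card α) :
    (6 ≤ Fintype.card α ∧ ∃ e : Fin 6 → α, Function.Injective e ∧ ∀ i, v (e i) = e (cA i)) ∨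
    ((∃ e : Fin 5 → α, Function.Injective e ∧ ∀ i, v (e i) = e (cB 2 i)) ∧
      (6 ≤ Fintype.card α → ∃ e : Fin 6 → α, Function.Injective e ∧ ∀ i, v (e i) = e (cB 3 i))) := by
  have : Fact (Nat.Prime 3) := ⟨by norm_num⟩
  have h4 : ∀ x, v (v (v x)) = x := fun x => by
    have := congrArg (fun σ : Perm α => σ x) h3
    simpa [pow_succ] using this
  obtain ⟨x, hx⟩ : ∃ x, v x ≠ x := by
    by_contra h
    push Not at h
    exact h1 (Equiv.ext h)
  have a2 := three_ne (p := 3) (n := 1) (by norm_num) h3 hx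
  have a3 : v (v x) ≠ v x := v.injective.ne hx
  by_cases h : ∃ y, y ≠ x ∧ y ≠ v x ∧ y ≠ v (v x) ∧ v y ≠ y
  · obtain ⟨y, y1, y2, y3, hy⟩ := h
    have b2 := three_ne (p := 3) (n := 1) (by norm_num) h3 hy
    have b3 : v (v y) ≠ v y := v.injective.ne hy
    have z1 : v y ≠ x := fun e => y3 (v.injective (e.trans (h4 x).symm))
    have z2 : v y ≠ v x := v.injective.ne y1
    have z3 : v y ≠ v (v x) := v.injective.ne y2
    have w1 : v (v y) ≠ x := fun e => z3 (v.injective (e.trans (h4 x).symm))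
    have w2 : v (v y) ≠ v x := v.injective.ne z1
    have w3 : v (v y) ≠ v (v x) := v.injective.ne z2
    have hi : Function.Injective ![x, v x, v (v x), y, v y, v (v y)] := by
      intro i j; fin_cases i <;> fin_cases j <;>
        simp [hx, a2, a3, hx.symm, a2.symm, a3.symm, hy, b2, b3, hy.symm, b2.symm, b3.symm, y1, y2, y3,
          y1.symm, y2.symm, y3.symm, z1, z2, z3, z1.symm, z2.symm, z3.symm, w1, w2, w3, w1.symm, w2.symm, w3.symm]
    refine Or.inl ⟨by simpa using Fintype.card_le_of_injective _ hi, _, hi, fun i => ?_⟩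
    fin_cases i
    exacts [rfl, rfl, h4 x, rfl, rfl, h4 y]
  · push Not at h
    have key : ∀ s : Finset α, s.card < Fintype.card α → ∃ y, y ∉ s := fun s hs => by
      by_contra h
      push Not at h
      rw [Finset.eq_univ_iff_forall.2 h, Finset.card_univ] at hs
      omega
    obtain ⟨y, hy⟩ := key {x, v x, v (v x)} (lt_of_le_of_lt Finset.card_le_three (by omega))
    obtain ⟨z, hz⟩ := key {y, x, v x, v (v x)} (lt_of_le_of_lt Finset.card_le_four (by omega))
    simp only [Finset.mem_insert, Finset.mem_singleton, not_or] at hy hz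
    obtain ⟨y1, y2, y3⟩ := hy
    obtain ⟨z0, z1, z2, z3⟩ := hz
    refine Or.inr ⟨⟨![x, v x, v (v x), y, z], ?_, fun i => ?_⟩, fun h6 => ?_⟩
    · intro i j; fin_cases i <;> fin_cases j <;>
        simp [hx, a2, a3, hx.symm, a2.symm, a3.symm, y1, y2, y3, Ne.symm y1, Ne.symm y2, Ne.symm y3,
          z0, z1, z2, z3, Ne.symm z0, Ne.symm z1, Ne.symm z2, Ne.symm z3]
    · fin_cases i
      exacts [rfl, rfl, h4 x, h y y1 y2 y3, h z z1 z2 z3]
    obtain ⟨t, ht⟩ := key {z, y, x, v x, v (v x)} (lt_of_le_of_lt Finset.card_le_five (by omega))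
    simp only [Finset.mem_insert, Finset.mem_singleton, not_or] at ht
    obtain ⟨t4, t0, t1, t2, t3⟩ := ht
    refine ⟨![x, v x, v (v x), y, z, t], ?_, fun i => ?_⟩
    · intro i j; fin_cases i <;> fin_cases j <;>
        simp [hx, a2, a3, hx.symm, a2.symm, a3.symm, y1, y2, y3, Ne.symm y1, Ne.symm y2, Ne.symm y3,
          z0, z1, z2, z3, Ne.symm z0, Ne.symm z1, Ne.symm z2, Ne.symm z3,
          t0, t1, t2, t3, t4, Ne.symm t0, Ne.symm t1, Ne.symm t2, Ne.symm t3, Ne.symm t4]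
    · fin_cases i
      exacts [rfl, rfl, h4 x, h y y1 y2 y3, h z z1 z2 z3, h t t1 t2 t3]

theorem swap_ex {u w : Perm α} (h : ∃ g : Perm α, Perm.sign g = 1 ∧ Good p w (g * u * g⁻¹)) :
    ∃ g : Perm α, Perm.sign g = 1 ∧ Good p u (g * w * g⁻¹) :=
  let ⟨g, h1, h2⟩ := h; ⟨g⁻¹, by rw [Perm.sign_inv, h1], h2.swap⟩

set_option maxRecDepth 100000 in
theorem main_three {u w : Perm α} (hu : u ^ 3 = 1) (hw : w ^ 3 = 1) (u1 : u ≠ 1) (w1 : w ≠ 1)
    (h5 : 5 ≤ Fintype.card α) : ∃ g : Perm α, Perm.sign g = 1 ∧ Good 3 u (g * w * g⁻¹) := by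
  have BA : ∀ {u w : Perm α} {eu ew : Fin 6 → α}, Function.Injective eu → Function.Injective ew →
      (∀ i, u (eu i) = eu (cB 3 i)) → (∀ i, w (ew i) = ew (cA i)) →
      ∃ g : Perm α, Perm.sign g = 1 ∧ Good 3 u (g * w * g⁻¹) := fun h1 h2 hu hw =>
    red3 h1 h2 hu hw (Equiv.swap 1 2 * Equiv.swap 2 3) (s := 0) (t := 4) (by decide)
      (good5 (by decide) (by decide) (by decide) (Or.inr (by decide)))
      (good5 (by decide) (by decide) (by decide) (Or.inr (by decide)))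
  rcases types hu u1 h5 with ⟨h6, eu, h1, hu⟩ | ⟨⟨eu, h1, hu⟩, hu'⟩ <;>
  rcases types hw w1 h5 with ⟨h6', ew, h2, hw⟩ | ⟨⟨ew, h2, hw⟩, hw'⟩
  · exact red3 h1 h2 hu hw (Equiv.swap 2 3 * Equiv.swap 4 5) (s := 0) (t := 4) (by decide)
      (good5 (by decide) (by decide) (by decide) (Or.inl (by decide)))
      (good5 (by decide) (by decide) (by decide) (Or.inl (by decide)))
  · obtain ⟨ew, h2, hw⟩ := hw' h6
    exact swap_ex (BA h2 h1 hw hu)
  · obtain ⟨eu, h1, hu⟩ := hu' h6'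
    exact BA h1 h2 hu hw
  · exact red3 h1 h2 hu hw (Equiv.swap 1 3 * Equiv.swap 2 4) (s := 0) (t := 1) (by decide)
      (good5 (by decide) (by decide) (by decide) (Or.inl (by decide)))
      (good5 (by decide) (by decide) (by decide) (Or.inl (by decide)))

theorem main_le [hp : Fact p.Prime] (hp2 : p ≠ 2) (h5 : 5 ≤ Fintype.card α) {u w : Perm α} {m n : ℕ}
    (hu : u ^ p ^ m = 1) (hw : w ^ p ^ n = 1) (u1 : u ≠ 1) (w1 : w ≠ 1) {a b : α}
    (ha : ∀ x : α, period u x ≤ period u a) (hb : ∀ x : α, period w x ≤ period w b)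
    (hab : period w b ≤ period u a) : ∃ g : Perm α, Perm.sign g = 1 ∧ Good p u (g * w * g⁻¹) := by
  obtain ⟨k, hk⟩ := period_pow hu a
  have hb1 : w b ≠ b := fun e => w1 (Equiv.ext fun x => by
    have h1 := hb x
    rw [period_eq_one_iff.2 (show w • b = b from e)] at h1
    have h2 := period_pos_of_orderOf_pos (orderOf_pos w) x
    exact period_eq_one_iff.1 (show period w x = 1 by omega))
  obtain ⟨X, hX, hx, hXw⟩ := exists_inv_set (k := k) hw b hb (hk ▸ hab) (by
    rw [← hk, ← ncard_orb, ← Nat.card_eq_fintype_card]; exact Set.ncard_le_card _)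
  rcases k with _ | _ | k
  · have h2 := period_pos_of_orderOf_pos (orderOf_pos w) b
    rw [pow_zero] at hk
    exact absurd (period_eq_one_iff.1 (show period w b = 1 by omega)) hb1
  · rw [zero_add, pow_one] at hk hX
    by_cases h3 : p = 3
    · subst h3
      have key : ∀ (v : Perm α) (n : ℕ), v ^ 3 ^ n = 1 → (∀ x : α, period v x ≤ 3) → v ^ 3 = 1 := by
        intro v n hv h
        refine Equiv.ext fun x => ?_
        obtain ⟨j, hj⟩ := period_pow hv x
        exact pow_smul_eq_iff_period_dvd.2 (dvd_of_le hj (pow_one 3).symm (h x))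
      exact main_three (key u m hu fun x => hk ▸ ha x) (key w n hw fun x => (hb x).trans (hk ▸ hab)) u1 w1 h5
    · have := hp.out.two_le
      have h4 : p ≠ 4 := by rintro rfl; exact absurd hp.out (by norm_num)
      exact main_prime (by omega) hk hw hX hXw hx hb1
  · exact main_big hp2 hk hw hX hXw hx hb1

theorem main [hp : Fact p.Prime] (hp2 : p ≠ 2) (h5 : 5 ≤ Fintype.card α) {u w : Perm α} {m n : ℕ}
    (hu : u ^ p ^ m = 1) (hw : w ^ p ^ n = 1) (u1 : u ≠ 1) (w1 : w ≠ 1) :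
    ∃ g : Perm α, Perm.sign g = 1 ∧ Good p u (g * w * g⁻¹) := by
  have : Nonempty α := Fintype.card_pos_iff.1 (by omega)
  obtain ⟨a, ha⟩ := Finite.exists_max (fun x : α => period u x)
  obtain ⟨b, hb⟩ := Finite.exists_max (fun x : α => period w x)
  rcases le_total (period w b) (period u a) with h | h
  · exact main_le hp2 h5 hu hw u1 w1 ha hb h
  · exact swap_ex (main_le hp2 h5 hw hu w1 u1 hb ha h)

end CF.AltPe
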